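import Groth.Agent.Lib.Lead.AE.EulerLC
import Groth.Agent.Lib.Lead.FBC.EulerBC
import Groth.Agent.Lib.Lead.QC.FlatBC
import Groth.Agent.Lib.Lead.QC.InvBasis
import Groth.Agent.H4.RelPerfOpen1
import Groth.Agent.Lib.Helper3.ArtFlat.Fam2
import Groth.Agent.Lib.Helper1.SheafOfModulesGrothendieck
import Groth.Prelude.Def_Pic13

/-!
# Euler characteristics along algebraic families

For `X` proper over a field `k`, a connected `k`-scheme `T` locally of finite type and a coherent
module `F` on `X ×_k T` flat over `T`, the Euler characteristic of the restriction of `F` to the slices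
`X × {t}` over `k`-points `t` of `T` does not depend on `t`.
-/

set_option autoImplicit false
set_option linter.style.haveILetI false
noncomputable section
universe u
open CategoryTheory Limits AlgebraicGeometry TopologicalSpace Opposite

namespace Groth.Agent.LD.AE

variable (k : Type u) [Field k] (X : Scheme.{u}) [X.Over (Spec (CommRingCat.of k))]

/-- **the cohomology of a fibre over a rational point.** -/
theorem finrank_HH_pullback_eq_betti {W T : Scheme.{u}} (f : W ⟶ T) [IsProper f] (F : W.Modules)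
    [F.IsQuasicoherent] (t : Spec (CommRingCat.of k) ⟶ T) (σ : X ⟶ W)
    (hpb : IsPullback σ (X ↘ Spec (CommRingCat.of k)) f t) (i : ℕ) :
    Module.finrank k (Coh.HH X ((Scheme.Modules.pullback σ).obj F) i) =
      PerfAux.betti f F (t (IsLocalRing.closedPoint k)) i := by
  let s : T := t (IsLocalRing.closedPoint k)
  let φ : T.residueField s ⟶ CommRingCat.of k :=
    Scheme.descResidueField (Scheme.stalkClosedPointTo t)
  have hφ : Spec.map φ ≫ T.fromSpecResidueField s = t :=
    Scheme.descResidueField_stalkClosedPointTo_fromSpecResidueField k T t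
  let g : X ⟶ f.fiber s := pullback.lift σ ((X ↘ Spec (CommRingCat.of k)) ≫ Spec.map φ)
    (by rw [Category.assoc, hφ]; exact hpb.w)
  have hg1 : g ≫ f.fiberι s = σ := pullback.lift_fst _ _ _
  have hg2 : g ≫ f.fiberToSpecResidueField s = (X ↘ Spec (CommRingCat.of k)) ≫ Spec.map φ :=
    pullback.lift_snd _ _ _
  have hpb' : IsPullback g (X ↘ Spec (CommRingCat.of k)) (f.fiberToSpecResidueField s)
      (Spec.map φ) := by
    have outer : IsPullback (g ≫ f.fiberι s) (X ↘ Spec (CommRingCat.of k)) f
        (Spec.map φ ≫ T.fromSpecResidueField s) := by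
      rw [hg1, hφ]; exact hpb
    exact IsPullback.of_right outer hg2 (IsPullback.of_hasPullback _ _)
  letI o : (f.fiber s).Over (Spec (CommRingCat.of (T.residueField s))) :=
    ⟨f.fiberToSpecResidueField s⟩
  letI : Algebra (T.residueField s) k := φ.hom.toAlgebra
  haveI : IsSeparated (f.fiberToSpecResidueField s) :=
    MorphismProperty.pullback_snd (P := @IsSeparated) f (T.fromSpecResidueField s) inferInstance
  haveI : QuasiSeparatedSpace (f.fiber s) :=
    quasiSeparatedSpace_of_quasiSeparated (f.fiberToSpecResidueField s)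
  haveI := Groth.Agent.LD.QC.qc_pullback (f.fiberι s) F
  have e1 := Groth.Agent.LD.FBC.finrank_HH_bc (T.residueField s) k (f.fiber s) X g hpb'
    ((Scheme.Modules.pullback (f.fiberι s)).obj F) i
  let e : (Scheme.Modules.pullback g).obj ((Scheme.Modules.pullback (f.fiberι s)).obj F) ≅
      (Scheme.Modules.pullback σ).obj F :=
    (Scheme.Modules.pullbackComp g (f.fiberι s)).app F ≪≫
      (Scheme.Modules.pullbackCongr hg1).app F
  have e2 := Groth.Agent.LD.FBC.finrank_HH_congr k e i
  exact e2.symm.trans e1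

theorem euler_pullback_eq_eulerChar {W T : Scheme.{u}} (f : W ⟶ T) [IsProper f] (F : W.Modules)
    [F.IsQuasicoherent] (t : Spec (CommRingCat.of k) ⟶ T) (σ : X ⟶ W)
    (hpb : IsPullback σ (X ↘ Spec (CommRingCat.of k)) f t) :
    Curv2.euler k X ((Scheme.Modules.pullback σ).obj F) =
      PerfAux.eulerChar f F (t (IsLocalRing.closedPoint k)) := by
  unfold Curv2.euler PerfAux.eulerChar
  exact finsum_congr fun i => by rw [finrank_HH_pullback_eq_betti k X f F t σ hpb i]

section Slice

variable {T : Scheme.{u}} (q : T ⟶ Spec (CommRingCat.of k))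
  (t : Spec (CommRingCat.of k) ⟶ T) (ht : t ≫ q = 𝟙 _)

/-- the slice `X ⟶ X ×_k T` is the fibre of the projection over the point `t`. -/
lemma isPullback_sliceAt :
    IsPullback (Pic13.sliceAt k X q t ht) (X ↘ Spec (CommRingCat.of k))
      (pullback.snd (X ↘ Spec (CommRingCat.of k)) q) t := by
  have h1 : Pic13.sliceAt k X q t ht ≫ pullback.fst (X ↘ Spec (CommRingCat.of k)) q = 𝟙 X :=
    pullback.lift_fst _ _ _
  have h2 : Pic13.sliceAt k X q t ht ≫ pullback.snd (X ↘ Spec (CommRingCat.of k)) q =
      (X ↘ Spec (CommRingCat.of k)) ≫ t := pullback.lift_snd _ _ _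
  have outer : IsPullback (Pic13.sliceAt k X q t ht ≫ pullback.fst (X ↘ Spec (CommRingCat.of k)) q)
      (X ↘ Spec (CommRingCat.of k)) (X ↘ Spec (CommRingCat.of k)) (t ≫ q) := by
    rw [h1, ht]; exact IsPullback.id_horiz _
  exact IsPullback.of_right outer h2 (IsPullback.of_hasPullback _ _)

end Slice

/-- **Euler characteristics are constant along connected algebraic families.** -/
theorem euler_fibreMod_eq [IsProper (X ↘ Spec (CommRingCat.of k))] {T : Scheme.{u}}
    (q : T ⟶ Spec (CommRingCat.of k)) [LocallyOfFiniteType q] [PreconnectedSpace T]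
    (F : (Pic13.prodK k X q).Modules) (hF : Coh.IsCoh F)
    (hfl : FlatMod.IsFlatOver (pullback.snd (X ↘ Spec (CommRingCat.of k)) q) F)
    (t t₀ : Spec (CommRingCat.of k) ⟶ T) (ht : t ≫ q = 𝟙 _) (ht₀ : t₀ ≫ q = 𝟙 _) :
    Curv2.euler k X (Pic13.fibreMod k X q t ht F) =
      Curv2.euler k X (Pic13.fibreMod k X q t₀ ht₀ F) := by
  haveI : IsLocallyNoetherian T := LocallyOfFiniteType.isLocallyNoetherian q
  haveI := hF.1
  haveI := Groth.Agent.H1.sheafOfModules_isGrothendieckAbelian
    (Opens.grothendieckTopology (Pic13.prodK k X q)) (Pic13.prodK k X q).ringCatSheaf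
  haveI : EnoughInjectives (Pic13.prodK k X q).Modules :=
    inferInstanceAs (EnoughInjectives (SheafOfModules _))
  have hlc := isLocallyConstant_eulerChar (pullback.snd (X ↘ Spec (CommRingCat.of k)) q) F hF hfl
  unfold Pic13.fibreMod
  rw [euler_pullback_eq_eulerChar k X _ F t _ (isPullback_sliceAt k X q t ht),
    euler_pullback_eq_eulerChar k X _ F t₀ _ (isPullback_sliceAt k X q t₀ ht₀)]
  exact hlc.apply_eq_of_preconnectedSpace _ _

section Flat

lemma flat_of_isField {R : Type*} [CommRing R] (hR : IsField R) (M : Type*) [AddCommGroup M]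
    [Module R M] : Module.Flat R M := by
  let := hR.toField
  infer_instance

/-- every module on a scheme over a field is flat over the field. -/
lemma isFlatOver_field (G : X.Modules) :
    FlatMod.IsFlatOver (X ↘ Spec (CommRingCat.of k)) G := by
  intro x
  have hfield : IsField Γ(Spec (CommRingCat.of k), ⊤) :=
    (Scheme.ΓSpecIso (CommRingCat.of k)).commRingCatIsoToRingEquiv.toMulEquiv.isField
      (Field.toIsField k)
  unfold FlatMod.IsFlatOverAt
  letI := Groth.Agent.LD.QC.stalkΓModuleOver (X ↘ Spec (CommRingCat.of k)) G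
    (U := ⊤) (V := ⊤) (fun _ _ => trivial) x trivial
  exact (Groth.Agent.LD.QC.flat_stalk_iff_flat_stalkΓ (X ↘ Spec (CommRingCat.of k)) G
    (U := ⊤) (V := ⊤) (isAffineOpen_top _) (fun _ _ => trivial) x trivial).mpr
    (flat_of_isField hfield _)

/-- flatness over the base is preserved by twisting with an invertible module. -/
lemma isFlatOver_tensor_invertible {W T : Scheme.{u}} (f : W ⟶ T) (P M : W.Modules)
    (hP : FlatMod.IsFlatOver f P) (hM : PicF.IsInvertible M) :
    FlatMod.IsFlatOver f (CohB1.tensorMod P M) := by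
  intro x
  obtain ⟨U, hxU, ⟨φ⟩⟩ := hM x
  have e := Groth.Agent.LD.QC.twistIso P M U φ.symm
  have h1 : FlatMod.IsFlatOverAt (U.ι ≫ f) ((Scheme.Modules.restrictFunctor U.ι).obj P) ⟨x, hxU⟩ :=
    (Groth.Agent.H4.RelPerfOpen1.isFlatOverAt_restrict_iff f U.ι P ⟨x, hxU⟩).mpr (hP x)
  have h2 := Groth.Agent.H3.ArtFlat.isFlatOverAt_of_iso (U.ι ≫ f) e ⟨x, hxU⟩ h1
  exact (Groth.Agent.H4.RelPerfOpen1.isFlatOverAt_restrict_iff f U.ι (CohB1.tensorMod P M)
    ⟨x, hxU⟩).mp h2

end Flat

end Groth.Agent.LD.AE
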