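import Groth.Agent.Lib.Lead.AE.Tau
import Groth.Agent.Lib.Lead.QC.PullTensorInv
import Groth.Agent.Lib.Lead.QC.TensorDesc
import Groth.Agent.Lib.Lead.QC.TensorPow
import Groth.Agent.H4.FlatPull2
import Groth.Agent.Lib.Helper5.Snap.Main
import Groth.Agent.Lib.Helper5.IntN.Basic
import Groth.Agent.Lib.Lead.QC.SerreSupp

/-!
# Twisting by a module τ-equivalent to zero does not change Euler characteristics
-/

universe u

open CategoryTheory Limits AlgebraicGeometry TopologicalSpace Opposite

namespace Groth.Agent.LD.AE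

open Groth.Agent.LD

section poly

lemma eval_aeval_X (P : MvPolynomial (Fin 1) ℚ) (y : ℚ) :
    (MvPolynomial.aeval (fun _ : Fin 1 => (Polynomial.X : Polynomial ℚ)) P).eval y =
      MvPolynomial.eval (fun _ : Fin 1 => y) P := by
  induction P using MvPolynomial.induction_on with
  | C a => simp
  | add p q hp hq => simp [hp, hq]
  | mul_X p i hp => simp [hp]

/-- a polynomial in one variable taking the same value at all multiples of `n > 0` is constant. -/
lemma eval_const_of_periodic (P : MvPolynomial (Fin 1) ℚ) (n : ℕ) (hn : 0 < n) (c : ℚ)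
    (h : ∀ j : ℕ, MvPolynomial.eval (fun _ : Fin 1 => ((n * j : ℕ) : ℚ)) P = c) (x : ℚ) :
    MvPolynomial.eval (fun _ : Fin 1 => x) P = c := by
  have hinf : Set.Infinite {y : ℚ |
      (MvPolynomial.aeval (fun _ : Fin 1 => (Polynomial.X : Polynomial ℚ)) P).eval y =
        (Polynomial.C c).eval y} := by
    refine Set.Infinite.mono ?_
      (Set.infinite_range_of_injective (f := fun j : ℕ => ((n * j : ℕ) : ℚ)) ?_)
    · rintro _ ⟨j, rfl⟩
      simp only [Set.mem_setOf_eq, Polynomial.eval_C]
      rw [eval_aeval_X]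
      exact h j
    · intro a b hab
      have hab' : ((n * a : ℕ) : ℚ) = ((n * b : ℕ) : ℚ) := hab
      have : n * a = n * b := by exact_mod_cast hab'
      exact Nat.eq_of_mul_eq_mul_left hn this
  have hQc := Polynomial.eq_of_infinite_eval_eq _ _ hinf
  rw [← eval_aeval_X, hQc, Polynomial.eval_C]

end poly

variable (k : Type u) [Field k] (X : Scheme.{u}) [X.Over (Spec (CommRingCat.of k))]
  [IsProper (X ↘ Spec (CommRingCat.of k))]

/-- twisting a coherent module by a module algebraically equivalent to zero does not change the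
Euler characteristic. -/
theorem euler_tensor_of_algEquivZero (F : X.Modules) (hF : Coh.IsCoh F) (N : X.Modules)
    (hN : Pic13.IsAlgEquivZero k X N) :
    Curv2.euler k X (CohB1.tensorMod F N) = Curv2.euler k X F := by
  obtain ⟨T, q, hconn, hlft, hqc, M, hM, t, t₀, ht, ht₀, ⟨e⟩, ⟨e₀⟩⟩ := hN
  haveI := hconn
  haveI := hlft
  haveI := hF.1
  have hcohpb : Coh.IsCoh ((Scheme.Modules.pullback
      (pullback.fst (X ↘ Spec (CommRingCat.of k)) q)).obj F) :=
    Groth.Agent.H4.FlatPull2.isCoh_pullback _ F hF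
  have hG : Coh.IsCoh (CohB1.tensorMod ((Scheme.Modules.pullback
      (pullback.fst (X ↘ Spec (CommRingCat.of k)) q)).obj F) M) :=
    Groth.Agent.H5.Curve2.isCoh_tensor_of_isInvertible hcohpb hM
  have hflpb : FlatMod.IsFlatOver (pullback.snd (X ↘ Spec (CommRingCat.of k)) q)
      ((Scheme.Modules.pullback (pullback.fst (X ↘ Spec (CommRingCat.of k)) q)).obj F) := by
    intro x'
    exact QC.isFlatOverAt_pullback_of_isPullback (IsPullback.of_hasPullback _ _) F x'
      (isFlatOver_field k X F _)
  have hflG := isFlatOver_tensor_invertible _ _ _ hflpb hM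
  have key := euler_fibreMod_eq k X q _ hG hflG t t₀ ht ht₀
  have iso : ∀ (s : Spec (CommRingCat.of k) ⟶ T) (hs : s ≫ q = 𝟙 _),
      Pic13.fibreMod k X q s hs (CohB1.tensorMod ((Scheme.Modules.pullback
        (pullback.fst (X ↘ Spec (CommRingCat.of k)) q)).obj F) M) ≅
        CohB1.tensorMod F (Pic13.fibreMod k X q s hs M) := by
    intro s hs
    unfold Pic13.fibreMod
    haveI := hcohpb.1
    have h1 : Pic13.sliceAt k X q s hs ≫ pullback.fst (X ↘ Spec (CommRingCat.of k)) q = 𝟙 X := by
      unfold Pic13.sliceAt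
      exact pullback.lift_fst _ _ _
    exact QC.pbTensorIsoR (Pic13.sliceAt k X q s hs) _ M hM ≪≫
      QC.tensorIso' ((Scheme.Modules.pullbackComp (Pic13.sliceAt k X q s hs)
        (pullback.fst (X ↘ Spec (CommRingCat.of k)) q)).app F ≪≫
        (Scheme.Modules.pullbackCongr h1).app F ≪≫ (Scheme.Modules.pullbackId X).app F)
        (Iso.refl _)
  calc Curv2.euler k X (CohB1.tensorMod F N)
      = Curv2.euler k X (Pic13.fibreMod k X q t ht (CohB1.tensorMod ((Scheme.Modules.pullback
          (pullback.fst (X ↘ Spec (CommRingCat.of k)) q)).obj F) M)) :=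
        FBC.euler_congr k ((QC.tensorIso' (Iso.refl F) e).symm ≪≫ (iso t ht).symm)
    _ = Curv2.euler k X (Pic13.fibreMod k X q t₀ ht₀ (CohB1.tensorMod ((Scheme.Modules.pullback
          (pullback.fst (X ↘ Spec (CommRingCat.of k)) q)).obj F) M)) := key
    _ = Curv2.euler k X F :=
        FBC.euler_congr k (iso t₀ ht₀ ≪≫ QC.tensorIso' (Iso.refl F) e₀ ≪≫ SecTwist.unitorR F)

/-- **twisting a coherent module by a module τ-equivalent to zero does not change the Euler
characteristic.** -/
theorem euler_tensor_of_tau (d : ℕ) (hd : topologicalKrullDim X ≤ d) (L : X.Modules)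
    (hL : PicF.IsInvertible L) (hτ : Pic13.IsTauEquivZero k X L) (F : X.Modules)
    (hF : Coh.IsCoh F) :
    Curv2.euler k X (CohB1.tensorMod F L) = Curv2.euler k X F := by
  obtain ⟨n, hn, hN⟩ := hτ
  haveI := hF.1
  haveI := QC.qc_of_isInvertible L hL
  have hB : ∀ j : ℕ, Curv2.euler k X (CohB1.tensorMod F (CohB1.tensorPow L (n * j))) =
      Curv2.euler k X F := by
    intro j
    induction j with
    | zero => exact FBC.euler_congr k (SecTwist.unitorR F)
    | succ j ih =>
      haveI := QC.qc_of_isInvertible _ (QC.isInvertible_tensorPow hL (n * j))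
      haveI := QC.qc_of_isInvertible _ (QC.isInvertible_tensorPow hL n)
      have e : CohB1.tensorMod F (CohB1.tensorPow L (n * j + n)) ≅
          CohB1.tensorMod (CohB1.tensorMod F (CohB1.tensorPow L (n * j))) (CohB1.tensorPow L n) :=
        QC.tensorIso' (Iso.refl F) (QC.powAddIso L (n * j) n).symm ≪≫
          (QC.tensorAssoc F _ _).symm
      have h1 := euler_tensor_of_algEquivZero k X (CohB1.tensorMod F (CohB1.tensorPow L (n * j)))
        (Groth.Agent.H5.Curve2.isCoh_tensor_of_isInvertible hF (QC.isInvertible_tensorPow hL _))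
        _ hN
      calc Curv2.euler k X (CohB1.tensorMod F (CohB1.tensorPow L (n * (j + 1))))
          = Curv2.euler k X (CohB1.tensorMod (CohB1.tensorMod F (CohB1.tensorPow L (n * j)))
              (CohB1.tensorPow L n)) := FBC.euler_congr k e
        _ = Curv2.euler k X (CohB1.tensorMod F (CohB1.tensorPow L (n * j))) := h1
        _ = Curv2.euler k X F := ih
  obtain ⟨P, -, hP⟩ := Groth.Agent.H5.Snap.snapper k F hF d
    ((topologicalKrullDim_subspace_le X (CohB1.support F)).trans hd) 1 (fun _ => L) (fun _ => hL)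
  have hval : ∀ m : ℕ, MvPolynomial.eval (fun _ : Fin 1 => (m : ℚ)) P =
      (Curv2.euler k X (CohB1.tensorMod F (CohB1.tensorPow L m)) : ℚ) := by
    intro m
    exact (hP (fun _ => m)).symm
  have h1 := eval_const_of_periodic P n hn (Curv2.euler k X F : ℚ)
    (fun j => by rw [hval, hB j]) 1
  have h2 := hval 1
  rw [Nat.cast_one, h1] at h2
  have h3 : Curv2.euler k X (CohB1.tensorMod F (CohB1.tensorPow L 1)) = Curv2.euler k X F := by
    exact_mod_cast h2.symm
  rw [← h3]
  exact FBC.euler_congr k (QC.tensorIso' (Iso.refl F) (QC.unitorL' L).symm)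

/-- the same, for the truncated Euler characteristics. -/
theorem eulerCharLE_tensor_of_tau (d : ℕ) (hd : topologicalKrullDim X ≤ d) (L : X.Modules)
    (hL : PicF.IsInvertible L) (hτ : Pic13.IsTauEquivZero k X L) (F : X.Modules)
    (hF : Coh.IsCoh F) :
    FGA.eulerCharLE k X (CohB1.tensorMod F L) d = FGA.eulerCharLE k X F d := by
  rw [Groth.Agent.H5.IntN.eulerCharLE_eq_euler k d hd _
      (Groth.Agent.H5.Curve2.isCoh_tensor_of_isInvertible hF hL),
    Groth.Agent.H5.IntN.eulerCharLE_eq_euler k d hd F hF]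
  exact euler_tensor_of_tau k X d hd L hL hτ F hF

/-- powers of `L` and of its inverse `L'` do not change Euler characteristics of coherent modules
when `L` is τ-equivalent to zero. -/
theorem eulerCharLE_tensorPow_of_tau (d : ℕ) (hd : topologicalKrullDim X ≤ d) (L L' : X.Modules)
    (hL : PicF.IsInvertible L) (e : CohB1.tensorMod L L' ≅ Coh.structureModule X)
    (hτ : Pic13.IsTauEquivZero k X L) (m : ℕ) (G : X.Modules) (hG : Coh.IsCoh G) :
    FGA.eulerCharLE k X (CohB1.tensorMod (CohB1.tensorPow L m) G) d = FGA.eulerCharLE k X G d ∧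
      FGA.eulerCharLE k X (CohB1.tensorMod (CohB1.tensorPow L' m) G) d =
        FGA.eulerCharLE k X G d := by
  have hL' : PicF.IsInvertible L' := QC.isInvertible_of_tensor_iso hL e
  have main := euler_tensor_of_tau k X d hd L hL hτ
  have fact1 : ∀ G : X.Modules, Coh.IsCoh G →
      Curv2.euler k X (CohB1.tensorMod L G) = Curv2.euler k X G := by
    intro G hG
    rw [FBC.euler_congr k (QC.tensorCommAll L G)]
    exact main G hG
  have fact2 : ∀ G : X.Modules, Coh.IsCoh G →
      Curv2.euler k X (CohB1.tensorMod L' G) = Curv2.euler k X G := by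
    intro G hG
    haveI := hG.1
    haveI := QC.qc_of_isInvertible L hL
    haveI := QC.qc_of_isInvertible L' hL'
    have hc : Coh.IsCoh (CohB1.tensorMod L' G) :=
      QC.isCoh_of_iso (QC.tensorCommAll G L')
        (Groth.Agent.H5.Curve2.isCoh_tensor_of_isInvertible hG hL')
    have h1 := main _ hc
    have iso : CohB1.tensorMod (CohB1.tensorMod L' G) L ≅ G :=
      QC.tensorCommAll _ L ≪≫ (QC.tensorAssoc L L' G).symm ≪≫ QC.tensorIso' e (Iso.refl G) ≪≫
        QC.unitorL' G
    rw [← h1]
    exact FBC.euler_congr k iso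
  have pow : ∀ P : X.Modules, PicF.IsInvertible P →
      (∀ G : X.Modules, Coh.IsCoh G →
        Curv2.euler k X (CohB1.tensorMod P G) = Curv2.euler k X G) →
      ∀ (m : ℕ) (G : X.Modules), Coh.IsCoh G →
        Curv2.euler k X (CohB1.tensorMod (CohB1.tensorPow P m) G) = Curv2.euler k X G := by
    intro P hP hfact m
    induction m with
    | zero => intro G _; exact FBC.euler_congr k (QC.unitorL' G)
    | succ m ih =>
      intro G hG
      haveI := hG.1
      haveI := QC.qc_of_isInvertible P hP
      haveI := QC.qc_of_isInvertible _ (QC.isInvertible_tensorPow hP m)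
      have hc : Coh.IsCoh (CohB1.tensorMod P G) :=
        QC.isCoh_of_iso (QC.tensorCommAll G P)
          (Groth.Agent.H5.Curve2.isCoh_tensor_of_isInvertible hG hP)
      calc Curv2.euler k X (CohB1.tensorMod (CohB1.tensorPow P (m + 1)) G)
          = Curv2.euler k X (CohB1.tensorMod (CohB1.tensorPow P m) (CohB1.tensorMod P G)) :=
            FBC.euler_congr k (QC.tensorAssoc (CohB1.tensorPow P m) P G)
        _ = Curv2.euler k X (CohB1.tensorMod P G) := ih _ hc
        _ = Curv2.euler k X G := hfact G hG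
  have cohpow : ∀ P : X.Modules, PicF.IsInvertible P →
      Coh.IsCoh (CohB1.tensorMod (CohB1.tensorPow P m) G) := fun P hP =>
    QC.isCoh_of_iso (QC.tensorCommAll G _)
      (Groth.Agent.H5.Curve2.isCoh_tensor_of_isInvertible hG (QC.isInvertible_tensorPow hP m))
  rw [Groth.Agent.H5.IntN.eulerCharLE_eq_euler k d hd _ (cohpow L hL),
    Groth.Agent.H5.IntN.eulerCharLE_eq_euler k d hd _ (cohpow L' hL'),
    Groth.Agent.H5.IntN.eulerCharLE_eq_euler k d hd G hG]
  exact ⟨pow L hL fact1 m G hG, pow L' hL' fact2 m G hG⟩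

end Groth.Agent.LD.AE
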