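import Groth.Agent.Lib.Lead.AE.AlgEq
import Groth.Agent.Lib.Lead.QC.PullInv
import Groth.Agent.Lib.Lead.QC.FiniteFree
import Groth.Agent.Lib.Lead.QC.AmpleIso
import Groth.Agent.Lib.Lead.QC.FreeData
import Groth.Agent.Lib.Lead.QC.InvInverse
import Groth.Agent.H4.PSch7
import Groth.Agent.Lib.Helper5.IntN.Num5
import Groth.Agent.Lib.Helper5.IntN.Klei6
import Groth.Agent.Lib.Helper5.IntN.BC4
import Groth.Agent.Lib.Helper5.DegC.IntNum
import Groth.Agent.Lib.Helper5.Curve2.C

/-!
# τ-equivalence to zero implies numerical equivalence to zero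

Algebraic equivalence to zero is detected along a connected parameter scheme `T` of finite type
over the field `k`; restricting the family to a closed subscheme `Y ⊆ X` and using local constancy
of the Euler characteristic in a flat proper family, the restriction of a module algebraically
equivalent to zero has the Euler characteristic of `O_Y`.
-/

universe u

open CategoryTheory Limits AlgebraicGeometry TopologicalSpace Opposite

namespace Groth.Agent.LD.AE

open Groth.Agent.LD

variable (k : Type u) [Field k] (X : Scheme.{u}) [X.Over (Spec (CommRingCat.of k))]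

/-- every morphism to the spectrum of a field is flat. -/
lemma flat_to_field {Y : Scheme.{u}} (p : Y ⟶ Spec (CommRingCat.of k)) : Flat p := by
  haveI : Subsingleton (Spec (CommRingCat.of k)) :=
    inferInstanceAs (Subsingleton (PrimeSpectrum k))
  haveI : IsDomain (CommRingCat.of k) := inferInstanceAs (IsDomain k)
  infer_instance

/-- the restriction to a `k`-scheme `Y` proper over `k` of a module algebraically equivalent to
zero has the Euler characteristic of `O_Y`. -/
theorem euler_pullback_of_algEquivZero {Y : Scheme.{u}} [Y.Over (Spec (CommRingCat.of k))]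
    [IsProper (Y ↘ Spec (CommRingCat.of k))] (i : Y ⟶ X)
    (hi : i ≫ (X ↘ Spec (CommRingCat.of k)) = Y ↘ Spec (CommRingCat.of k))
    (N : X.Modules) (hN : Pic13.IsAlgEquivZero k X N) :
    Curv2.euler k Y ((Scheme.Modules.pullback i).obj N) = Curv2.euler k Y (QC.unitMod Y) := by
  obtain ⟨T, q, hconn, hlft, hqc, M, hM, t, t₀, ht, ht₀, ⟨e⟩, ⟨e₀⟩⟩ := hN
  haveI := hconn
  haveI := hlft
  let j : Pic13.prodK k Y q ⟶ Pic13.prodK k X q :=
    pullback.lift (pullback.fst (Y ↘ Spec (CommRingCat.of k)) q ≫ i)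
      (pullback.snd (Y ↘ Spec (CommRingCat.of k)) q)
      (by rw [Category.assoc, hi, pullback.condition])
  have hslice : ∀ (s : Spec (CommRingCat.of k) ⟶ T) (hs : s ≫ q = 𝟙 _),
      Pic13.sliceAt k Y q s hs ≫ j = i ≫ Pic13.sliceAt k X q s hs := by
    intro s hs
    unfold Pic13.sliceAt
    apply pullback.hom_ext
    · rw [Category.assoc, pullback.lift_fst, pullback.lift_fst_assoc, Category.assoc,
        pullback.lift_fst, Category.id_comp, Category.comp_id]
    · rw [Category.assoc, pullback.lift_snd, pullback.lift_snd, Category.assoc,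
        pullback.lift_snd, ← hi, Category.assoc]
  have hMY : PicF.IsInvertible ((Scheme.Modules.pullback j).obj M) :=
    QC.isInvertible_pullback j hM
  haveI : Flat (Y ↘ Spec (CommRingCat.of k)) := flat_to_field k _
  have hfl : FlatMod.IsFlatOver (pullback.snd (Y ↘ Spec (CommRingCat.of k)) q)
      ((Scheme.Modules.pullback j).obj M) :=
    Groth.Agent.H4.PSch7.isFlatOver_of_isFinLocFree _ _ (QC.isFinLocFree_of_isInvertible _ hMY)
  have key := euler_fibreMod_eq k Y q _ (Groth.Agent.H5.Curve2.isCoh_of_isInvertible hMY) hfl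
    t t₀ ht ht₀
  have iso : ∀ (s : Spec (CommRingCat.of k) ⟶ T) (hs : s ≫ q = 𝟙 _),
      Pic13.fibreMod k Y q s hs ((Scheme.Modules.pullback j).obj M) ≅
        (Scheme.Modules.pullback i).obj (Pic13.fibreMod k X q s hs M) := by
    intro s hs
    unfold Pic13.fibreMod
    exact (Scheme.Modules.pullbackComp (Pic13.sliceAt k Y q s hs) j).app M ≪≫
      (Scheme.Modules.pullbackCongr (hslice s hs)).app M ≪≫
      ((Scheme.Modules.pullbackComp i (Pic13.sliceAt k X q s hs)).app M).symm
  calc Curv2.euler k Y ((Scheme.Modules.pullback i).obj N)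
      = Curv2.euler k Y (Pic13.fibreMod k Y q t ht ((Scheme.Modules.pullback j).obj M)) :=
        FBC.euler_congr k (((Scheme.Modules.pullback i).mapIso e).symm ≪≫ (iso t ht).symm)
    _ = Curv2.euler k Y (Pic13.fibreMod k Y q t₀ ht₀ ((Scheme.Modules.pullback j).obj M)) := key
    _ = Curv2.euler k Y (QC.unitMod Y) :=
        FBC.euler_congr k (iso t₀ ht₀ ≪≫ (Scheme.Modules.pullback i).mapIso e₀ ≪≫ QC.pbUnitIso i)

variable [IsProper (X ↘ Spec (CommRingCat.of k))]

/-- **τ-equivalence to zero implies numerical equivalence to zero.** -/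
theorem isNumEquivZero_of_tau (L : X.Modules) (hL : PicF.IsInvertible L)
    (hτ : Pic13.IsTauEquivZero k X L) : Pic13.IsNumEquivZero k X L := by
  obtain ⟨n, hn, hN⟩ := hτ
  intro Y i _ hYint hYdim
  letI : Y.Over (Spec (CommRingCat.of k)) := ⟨i ≫ (X ↘ Spec (CommRingCat.of k))⟩
  haveI : IsProper (Y ↘ Spec (CommRingCat.of k)) :=
    inferInstanceAs (IsProper (i ≫ (X ↘ Spec (CommRingCat.of k))))
  have hiL := QC.isInvertible_pullback i hL
  have h1 := euler_pullback_of_algEquivZero k X i rfl _ hN
  rw [FBC.euler_congr k (QC.pbTensorPowIso i L hL n)] at h1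
  have h2 := Groth.Agent.H5.DegC.deg_tensorPow k hYdim.le _ hiL n
  have h3 := Groth.Agent.H5.IntN.curveDeg_eq_euler_sub k hYdim.le _ hiL
  change Pic13.curveDeg k (Y ↘ Spec (CommRingCat.of k)) _ = 0
  rw [h3]
  unfold Curv2.deg at h2
  rw [h1] at h2
  push_cast at h2
  have hn' : (n : ℤ) ≠ 0 := by exact_mod_cast hn.ne'
  have h4 : (n : ℤ) * (Curv2.euler k Y ((Scheme.Modules.pullback i).obj L) -
      Curv2.euler k Y (QC.unitMod Y)) = 0 := by
    linear_combination -h2
  rcases mul_eq_zero.mp h4 with h | h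
  · exact absurd h hn'
  · exact h

/-- for `L` τ-equivalent to zero with inverse `L'` and `H` ample, `L^m ⊗ H` and `L'^m ⊗ H` are
ample. -/
theorem isAmple_of_tau (H : X.Modules) (hH : CohB1.IsAmple H)
    (L L' : X.Modules) (hL : PicF.IsInvertible L)
    (hLL' : Nonempty (CohB1.tensorMod L L' ≅ Coh.structureModule X))
    (hτ : Pic13.IsTauEquivZero k X L) (m : ℕ) :
    CohB1.IsAmple (CohB1.tensorMod (CohB1.tensorPow L m) H) ∧
      CohB1.IsAmple (CohB1.tensorMod (CohB1.tensorPow L' m) H) := by
  obtain ⟨e⟩ := hLL'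
  have hL' : PicF.IsInvertible L' := QC.isInvertible_of_tensor_iso hL e
  have hnum := isNumEquivZero_of_tau k X L hL hτ
  have hnefL : Groth.Agent.H5.IntN.NefMod k X L :=
    Groth.Agent.H5.IntN.nefMod_of_curveDeg k L hL
      (fun Y i _ hint hdim => by rw [hnum Y i hint hdim])
  have hnefL' : Groth.Agent.H5.IntN.NefMod k X L' :=
    Groth.Agent.H5.IntN.nefMod_of_curveDeg k L' hL' (fun Y i _ hint hdim => by
      rw [Groth.Agent.H5.IntN.curveDeg_inverse k L L' hL hL' e Y i hint hdim,
        hnum Y i hint hdim, neg_zero])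
  have key : ∀ P : X.Modules, PicF.IsInvertible P → Groth.Agent.H5.IntN.NefMod k X P →
      CohB1.IsAmple (CohB1.tensorMod (CohB1.tensorPow P m) H) := by
    intro P hP hnef
    have h := Groth.Agent.H5.IntN.isAmple_tensorPows_of_nef k H P hH hP hnef m 1 one_pos
    exact QC.isAmple_of_iso (QC.tensorIso' (Iso.refl _) (QC.unitorL' H)) h
  exact ⟨key L hL hnefL, key L' hL' hnefL'⟩

end Groth.Agent.LD.AE
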