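import Groth.Agent.Lib.Lead.AE.Diag
import Groth.Agent.Lib.Lead.AE.Tau
import Groth.Agent.Lib.Lead.Curve.Proper
import Groth.Agent.Lib.Lead.FBC.EulerBC
import Groth.Agent.Lib.Helper5.SD.GG
import Groth.Agent.Lib.Helper5.SD.GGReg
import Groth.Agent.Lib.Helper5.SD.SepPts
import Groth.Agent.Lib.Helper5.Curve2.D
import Groth.Agent.Lib.Helper5.Curve2.G
import Groth.Agent.Lib.Helper5.Curve2.I
import Groth.Agent.Lib.Helper5.Curve3.SmInt
import Groth.Agent.Lib.Helper5.IntN.Basic
import Groth.Agent.Lib.Helper5.Snap.TP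
import Groth.Agent.Lib.Helper5.CV.A

/-!
# Degree zero invertible modules on a smooth proper curve are algebraically equivalent to zero

Over an algebraically closed field, an invertible module of degree `d` with a nonzero section is
`O(x₁ + ⋯ + x_d)` for rational points `x_i` (zeros of the section); two such modules differ by a
tensor product of modules `O(x) ⊗ O(-y)`, which are algebraically equivalent to zero through the
diagonal family.
-/

universe u

open CategoryTheory Limits AlgebraicGeometry TopologicalSpace Opposite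

namespace Groth.Agent.LD.AE

open Groth.Agent.LD Groth.Agent.LD.QC

section Curve

variable (k : Type u) [Field k] [IsAlgClosed k] (C : Scheme.{u})
  [C.Over (Spec (CommRingCat.of k))] [IsProper (C ↘ Spec (CommRingCat.of k))]
  [Smooth (C ↘ Spec (CommRingCat.of k))] [IsIntegral C]

omit [Smooth (C ↘ Spec (CommRingCat.of k))] [IsIntegral C] in
/-- over an algebraically closed field closed points are rational. -/
theorem exists_rational_of_closed (x : C) (hx : IsClosed ({x} : Set C)) :
    ∃ (σ : Spec (CommRingCat.of k) ⟶ C) (_ : σ ≫ (C ↘ Spec (CommRingCat.of k)) = 𝟙 _),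
      σ.ker = Scheme.IdealSheafData.vanishingIdeal ⟨{x}, hx⟩ := by
  refine ⟨pointOfClosedPoint (C ↘ Spec (CommRingCat.of k)) x hx,
    pointOfClosedPoint_comp _ x hx, ?_⟩
  rw [Groth.Agent.H5.Curve6.ker_eq_vI_of_rational k C]
  have h1 : (pointOfClosedPoint (C ↘ Spec (CommRingCat.of k)) x hx) default = x :=
    pointOfClosedPoint_apply _ x hx _
  rw [h1]
  exact congrArg Scheme.IdealSheafData.vanishingIdeal (Closeds.ext hx.closure_eq)

omit [IsAlgClosed k] [Smooth (C ↘ Spec (CommRingCat.of k))] [IsIntegral C]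
  [IsProper (C ↘ Spec (CommRingCat.of k))] in
lemma deg_unit : Curv2.deg k C (unitMod C) 1 = 0 := by
  unfold Curv2.deg
  push_cast
  ring

omit [IsAlgClosed k] [Smooth (C ↘ Spec (CommRingCat.of k))] [IsIntegral C]
  [IsProper (C ↘ Spec (CommRingCat.of k))] in
lemma deg_congr {M N : C.Modules} (e : M ≅ N) : Curv2.deg k C M 1 = Curv2.deg k C N 1 := by
  unfold Curv2.deg
  rw [Groth.Agent.LD.FBC.euler_congr k e]

omit [Smooth (C ↘ Spec (CommRingCat.of k))] in
/-- a nonzero section of an invertible module of positive degree vanishes at a rational point,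
and comes from the twist by the ideal of that point. -/
theorem exists_zero_twist (hdim : topologicalKrullDim C = 1) (M : C.Modules)
    (hM : PicF.IsInvertible M) (s : unitMod C ⟶ M) (hs : s ≠ 0)
    (hdeg : 0 < Curv2.deg k C M 1) :
    ∃ (σ : Spec (CommRingCat.of k) ⟶ C) (_ : σ ≫ (C ↘ Spec (CommRingCat.of k)) = 𝟙 _)
      (τ : unitMod C ⟶ CohB1.tensorMod (ClSub.idealMod σ.ker) M), τ ≠ 0 := by
  haveI := qc_of_isInvertible M hM
  obtain ⟨x, hx⟩ : ∃ x : C, x ∉ CohB1.genLocus M s := by
    by_contra hall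
    push Not at hall
    have htop : CohB1.genLocus M s = ⊤ := by
      rw [eq_top_iff]
      intro x _
      exact hall x
    haveI := Groth.Agent.H5.CV.isIso_of_genLocus_eq_top s htop
    have h1 := deg_congr k C (asIso s)
    rw [deg_unit] at h1
    omega
  haveI : Mono s := (Groth.Agent.H5.Curve2.cokernel_section_facts k C hdim.le hM s hs).1.mono_f
  have hxc : IsClosed ({x} : Set C) := by
    by_contra h
    exact hx (Groth.Agent.H5.SD.mem_genLocus_of_not_isClosed hdim.le hM s x h)
  obtain ⟨τ, hτ⟩ := Groth.Agent.H5.SD.exists_lift_of_notMem_genLocus M hM x hxc s hx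
  have hτne : τ ≠ 0 := by
    rintro rfl
    apply hs
    rw [← hτ, zero_comp]
  obtain ⟨σ, hσ, hker⟩ := exists_rational_of_closed k C x hxc
  refine ⟨σ, hσ, ?_⟩
  rw [hker]
  exact ⟨τ, hτne⟩

set_option maxHeartbeats 1600000 in
/-- **two invertible modules of the same degree with nonzero sections are algebraically
equivalent.** -/
theorem isAlgEquivZero_of_sections (hdim : topologicalKrullDim C = 1) :
    ∀ (d : ℕ) (M N N' : C.Modules), PicF.IsInvertible M → PicF.IsInvertible N →
      PicF.IsInvertible N' → Curv2.deg k C M 1 = d → Curv2.deg k C N 1 = d →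
      (∃ s : unitMod C ⟶ M, s ≠ 0) → (∃ s : unitMod C ⟶ N, s ≠ 0) →
      Nonempty (CohB1.tensorMod N N' ≅ unitMod C) →
      Pic13.IsAlgEquivZero k C (CohB1.tensorMod M N') := by
  have hreg : ∀ x : C, IsRegularLocalRing (C.presheaf.stalk x) := fun x =>
    Groth.Agent.H1.SmoothDepth.isRegularLocalRing_stalk_of_smooth k
      (C ↘ Spec (CommRingCat.of k)) x
  intro d
  induction d with
  | zero =>
    intro M N N' hM hN hN' hdM hdN ⟨sM, hsM⟩ ⟨sN, hsN⟩ ⟨e⟩
    haveI := Groth.Agent.H5.SD.isIso_of_deg_nonpos k C hdim.le hM sM hsM (by omega)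
    haveI := Groth.Agent.H5.SD.isIso_of_deg_nonpos k C hdim.le hN sN hsN (by omega)
    have e1 : N' ≅ unitMod C :=
      (unitorL' N').symm ≪≫ tensorIso' (asIso sN) (Iso.refl N') ≪≫ e
    exact isAlgEquivZero_of_iso k C
      ((unitorL' (unitMod C)).symm ≪≫ tensorIso' (asIso sM) e1.symm) (isAlgEquivZero_unit k C)
  | succ d ih =>
    intro M N N' hM hN hN' hdM hdN ⟨sM, hsM⟩ ⟨sN, hsN⟩ ⟨e⟩
    obtain ⟨σx, hx, τx, hτx⟩ := exists_zero_twist k C hdim M hM sM hsM (by omega)
    obtain ⟨σy, hy, τy, hτy⟩ := exists_zero_twist k C hdim N hN sN hsN (by omega)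
    obtain ⟨hIx, hdx, -⟩ := rational_point_facts k C σx hx hdim hreg
    obtain ⟨hIy, hdy, -⟩ := rational_point_facts k C σy hy hdim hreg
    obtain ⟨Jx, hJx, ⟨ex⟩⟩ := Groth.Agent.H5.Glue.exists_inverse _ hIx
    obtain ⟨Jy, hJy, ⟨ey⟩⟩ := Groth.Agent.H5.Glue.exists_inverse _ hIy
    haveI := qc_of_isInvertible M hM
    haveI := qc_of_isInvertible N hN
    haveI := qc_of_isInvertible N' hN'
    haveI := qc_of_isInvertible Jx hJx
    haveI := qc_of_isInvertible Jy hJy
    haveI := qc_of_isInvertible _ hIx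
    haveI := qc_of_isInvertible _ hIy
    have hM1 := isInvertible_tensorMod hIx hM
    have hN1 := isInvertible_tensorMod hIy hN
    have hN1' := isInvertible_tensorMod hJy hN'
    have hdM1 : Curv2.deg k C (CohB1.tensorMod (ClSub.idealMod σx.ker) M) 1 = d := by
      rw [Groth.Agent.H5.Curve2.deg_tensor k C hdim.le hIx hM, hdx, hdM]
      push_cast
      ring
    have hdN1 : Curv2.deg k C (CohB1.tensorMod (ClSub.idealMod σy.ker) N) 1 = d := by
      rw [Groth.Agent.H5.Curve2.deg_tensor k C hdim.le hIy hN, hdy, hdN]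
      push_cast
      ring
    have einv : CohB1.tensorMod (CohB1.tensorMod (ClSub.idealMod σy.ker) N)
        (CohB1.tensorMod Jy N') ≅ unitMod C :=
      tensorInterchange _ _ _ _ ≪≫ tensorIso' ey e ≪≫ unitorL' (unitMod C)
    have hih := ih _ _ _ hM1 hN1 hN1' hdM1 hdN1 ⟨τx, hτx⟩ ⟨τy, hτy⟩ ⟨einv⟩
    have hQ := isAlgEquivZero_point_diff k C hdim σx σy hx hy Jx hJx ex
    have hT := isAlgEquivZero_tensor k C hih hQ
    haveI := tensorMod_isQuasicoherent M N'
    haveI := tensorMod_isQuasicoherent (ClSub.idealMod σx.ker) M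
    haveI := tensorMod_isQuasicoherent Jy N'
    haveI := tensorMod_isQuasicoherent (ClSub.idealMod σx.ker) Jy
    haveI := tensorMod_isQuasicoherent Jx (ClSub.idealMod σy.ker)
    haveI := tensorMod_isQuasicoherent (ClSub.idealMod σx.ker) Jx
    haveI := tensorMod_isQuasicoherent Jy (ClSub.idealMod σy.ker)
    refine isAlgEquivZero_of_iso k C ?_ hT
    exact tensorIso' (tensorInterchange _ _ _ _ ≪≫ tensorCommAll _ _) (Iso.refl _) ≪≫
      tensorAssoc _ _ _ ≪≫
      tensorIso' (Iso.refl _) (tensorInterchange _ _ _ _ ≪≫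
        tensorIso' ex (tensorCommAll _ _ ≪≫ ey) ≪≫ unitorL' (unitMod C)) ≪≫
      SecTwist.unitorR _

/-- **an invertible module of degree zero on a smooth proper integral curve over an algebraically
closed field is algebraically equivalent to zero.** -/
theorem isAlgEquivZero_of_deg_zero (hdim : topologicalKrullDim C = 1) (L : C.Modules)
    (hL : PicF.IsInvertible L) (hdeg : Curv2.deg k C L 1 = 0) : Pic13.IsAlgEquivZero k C L := by
  have hreg : ∀ x : C, IsRegularLocalRing (C.presheaf.stalk x) := fun x =>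
    Groth.Agent.H1.SmoothDepth.isRegularLocalRing_stalk_of_smooth k
      (C ↘ Spec (CommRingCat.of k)) x
  obtain ⟨σq, hq, -⟩ := Groth.Agent.H5.SD.exists_rational_point_mem k C ⊤
    ⟨genericPoint C, trivial⟩
  obtain ⟨hIq, hdq, -⟩ := rational_point_facts k C σq hq hdim hreg
  obtain ⟨Jq, hJq, ⟨eq⟩⟩ := Groth.Agent.H5.Glue.exists_inverse _ hIq
  have hdJ : Curv2.deg k C Jq 1 = 1 := by
    have h1 := Groth.Agent.H5.Curve2.deg_tensor k C hdim.le hIq hJq
    rw [deg_congr k C eq, deg_unit, hdq] at h1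
    omega
  let g := Curv2.genus k C
  have hN : PicF.IsInvertible (CohB1.tensorPow Jq g) := isInvertible_tensorPow hJq g
  have hdN : Curv2.deg k C (CohB1.tensorPow Jq g) 1 = g := by
    rw [Groth.Agent.H5.Curve2.deg_tensorPow k C hdim.le hJq g, hdJ, mul_one]
  have hM : PicF.IsInvertible (CohB1.tensorMod L (CohB1.tensorPow Jq g)) :=
    isInvertible_tensorMod hL hN
  have hdM : Curv2.deg k C (CohB1.tensorMod L (CohB1.tensorPow Jq g)) 1 = g := by
    rw [Groth.Agent.H5.Curve2.deg_tensor k C hdim.le hL hN, hdeg, hdN, zero_add]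
  haveI := qc_of_isInvertible L hL
  haveI := qc_of_isInvertible _ hN
  haveI := qc_of_isInvertible _ hM
  haveI : (unitMod C).IsQuasicoherent := qc_of_isInvertible _ (isInvertible_unit C)
  have h0 := Groth.Agent.H5.Curve3.finrank_HH0_eq_one_of_isAlgClosed k C
  have hO := Groth.Agent.LD.Curve.euler_eq_sub k C hdim.le (unitMod C)
  have hOe : Curv2.euler k C (unitMod C) = 1 - (g : ℤ) := by
    rw [hO]
    have h0' : Module.finrank k (Coh.HH C (unitMod C) 0) = 1 := h0
    rw [h0']
    rfl
  have heuler : ∀ P : C.Modules, Curv2.deg k C P 1 = g → 0 < Curv2.euler k C P := by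
    intro P hP
    unfold Curv2.deg at hP
    have hOe' : Curv2.euler k C (Coh.structureModule C) = 1 - (g : ℤ) := hOe
    rw [hOe'] at hP
    push_cast at hP
    linarith
  obtain ⟨sN, hsN⟩ := Groth.Agent.H5.Curve2.exists_section_ne_zero_of_euler_pos k C hdim.le _
    (heuler _ hdN)
  obtain ⟨sM, hsM⟩ := Groth.Agent.H5.Curve2.exists_section_ne_zero_of_euler_pos k C hdim.le _
    (heuler _ hdM)
  obtain ⟨N', hN', ⟨eN⟩⟩ := Groth.Agent.H5.Glue.exists_inverse _ hN
  haveI := qc_of_isInvertible N' hN'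
  have hmain := isAlgEquivZero_of_sections k C hdim g _ _ N' hM hN hN' hdM hdN ⟨sM, hsM⟩
    ⟨sN, hsN⟩ ⟨eN⟩
  exact isAlgEquivZero_of_iso k C
    (tensorAssoc L _ N' ≪≫ tensorIso' (Iso.refl L) eN ≪≫ SecTwist.unitorR L) hmain

end Curve

/-- **S12411**. -/
theorem s12411 (k : Type u) [Field k] [IsAlgClosed k]
    (C : Scheme.{u}) [C.Over (Spec (CommRingCat.of k))]
    [IsProper (C ↘ Spec (CommRingCat.of k))] [Smooth (C ↘ Spec (CommRingCat.of k))]
    [ConnectedSpace ↥C] (hdim : topologicalKrullDim ↥C = 1)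
    (L : C.Modules) (hL : PicF.IsInvertible L) :
    Pic13.IsAlgEquivZero k C L ↔
      Pic13.curveDeg k (C ↘ Spec (CommRingCat.of k)) L = 0 := by
  haveI : IsIntegral C :=
    Groth.Agent.H5.Curve3.isIntegral_of_smooth_connected k (C ↘ Spec (CommRingCat.of k))
  have hd : topologicalKrullDim C ≤ ((1 : ℕ) : WithBot ℕ∞) := by
    rw [hdim]; rfl
  have hcd : Pic13.curveDeg k (C ↘ Spec (CommRingCat.of k)) L = Curv2.deg k C L 1 := by
    have h1 := Groth.Agent.H5.IntN.eulerCharLE_eq_euler k 1 hd L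
      (Groth.Agent.H5.Snap.isCoh_of_isInvertible hL)
    have h2 := Groth.Agent.H5.IntN.eulerCharLE_eq_euler k 1 hd (unitMod C)
      (Groth.Agent.H5.Snap.isCoh_of_isInvertible (isInvertible_unit C))
    unfold Pic13.curveDeg Curv2.deg
    have h1' : @FGA.eulerCharLE k _ C ⟨C ↘ Spec (CommRingCat.of k)⟩ L 1 = Curv2.euler k C L := h1
    have h2' : @FGA.eulerCharLE k _ C ⟨C ↘ Spec (CommRingCat.of k)⟩ (Coh.structureModule C) 1 =
        Curv2.euler k C (Coh.structureModule C) := h2
    rw [h1', h2']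
    push_cast
    ring
  rw [hcd]
  constructor
  · intro h
    have h1 := euler_pullback_of_algEquivZero k C (Y := C) (𝟙 C) (Category.id_comp _) L h
    have h2 := Groth.Agent.LD.FBC.euler_congr k ((Scheme.Modules.pullbackId C).app L)
    unfold Curv2.deg
    have h3 : Curv2.euler k C L = Curv2.euler k C (Coh.structureModule C) := h2.symm.trans h1
    rw [h3]
    push_cast
    ring
  · intro h
    exact isAlgEquivZero_of_deg_zero k C hdim L hL h

end Groth.Agent.LD.AE
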