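import Groth.Agent.Lib.Lead.AE.Group
import Groth.Agent.Lib.Lead.QC.IdealPull
import Groth.Agent.Lib.Helper1.DiagReg
import Groth.Agent.Lib.Helper1.SmoothDepth
import Groth.Agent.Lib.Helper5.Glue.F
import Groth.Agent.Lib.Helper5.SD.Genus1Pic
import Groth.Agent.Lib.Helper5.Curve6.Rat

/-!
# The diagonal family on a smooth curve

On a smooth proper integral curve `C` over a field, the ideal sheaf of the diagonal of `C × C` is
invertible; its restriction to the slice `C × {p}` is the ideal sheaf of the rational point `p`.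
Consequently `O(p) ⊗ O(-q)` is algebraically equivalent to zero for rational points `p`, `q`.
-/

universe u

open CategoryTheory Limits AlgebraicGeometry TopologicalSpace Opposite

namespace Groth.Agent.LD.AE

open Groth.Agent.LD Groth.Agent.LD.QC

variable (k : Type u) [Field k] (C : Scheme.{u}) [C.Over (Spec (CommRingCat.of k))]

/-- the diagonal of a smooth separated integral curve is an effective Cartier divisor. -/
theorem isEffCartierIdeal_diagonal [Smooth (C ↘ Spec (CommRingCat.of k))]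
    [IsSeparated (C ↘ Spec (CommRingCat.of k))] [IsIntegral C]
    (hdim : topologicalKrullDim C = 1) :
    BlowUp.IsEffCartierIdeal (pullback.diagonal (C ↘ Spec (CommRingCat.of k))).ker := by
  have hreg := Groth.Agent.H1.DiagReg.diag_regular (C ↘ Spec (CommRingCat.of k)) 1
    (by simpa using hdim)
  intro w
  by_cases hw : w ∈ Set.range (pullback.diagonal (C ↘ Spec (CommRingCat.of k)))
  · obtain ⟨z, rfl⟩ := hw
    obtain ⟨U, hzU, -, rs, hlen, hseq, hker⟩ := hreg.2 z
    obtain ⟨a, rfl⟩ : ∃ a, rs = [a] := List.length_eq_one_iff.mp hlen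
    refine ⟨U, hzU, a, ?_, ?_⟩
    · have h1 : RingTheory.Sequence.IsRegular
          Γ(pullback.diagonalObj (C ↘ Spec (CommRingCat.of k)), U.1) [a] := hseq
      have h2 := (RingTheory.Sequence.isWeaklyRegular_cons_iff
        Γ(pullback.diagonalObj (C ↘ Spec (CommRingCat.of k)), U.1) a []).mp
        h1.toIsWeaklyRegular
      rw [mem_nonZeroDivisors_iff_right]
      intro r hr
      apply h2.1
      change a • r = a • 0
      rw [smul_eq_mul, smul_eq_mul, mul_comm, hr, mul_zero]
    · rw [Scheme.Hom.ker_apply, hker, Ideal.ofList_singleton]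
  · have hcl : IsClosed (Set.range (pullback.diagonal (C ↘ Spec (CommRingCat.of k)))) :=
      (pullback.diagonal (C ↘ Spec (CommRingCat.of k))).isClosedEmbedding.isClosed_range
    obtain ⟨U, hU, hwU, hUle⟩ := exists_isAffineOpen_mem_and_subset (x := w)
      (U := ⟨_, hcl.isOpen_compl⟩) hw
    refine ⟨⟨U, hU⟩, hwU, 1, one_mem _, ?_⟩
    rw [Scheme.Hom.ker_apply, Ideal.span_singleton_one]
    have hbot : (pullback.diagonal (C ↘ Spec (CommRingCat.of k))) ⁻¹ᵁ U = ⊥ := by
      rw [eq_bot_iff]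
      intro z hz
      exact (hUle hz ⟨z, rfl⟩).elim
    haveI : Subsingleton Γ(C, (pullback.diagonal (C ↘ Spec (CommRingCat.of k))) ⁻¹ᵁ U) := by
      rw [hbot]; infer_instance
    exact RingHom.ker_eq_top_of_subsingleton _

section Point

variable (σ : Spec (CommRingCat.of k) ⟶ C) (hσ : σ ≫ (C ↘ Spec (CommRingCat.of k)) = 𝟙 _)

/-- the slice through a rational point meets the diagonal exactly in that point. -/
theorem isPullback_point_slice_diagonal :
    IsPullback σ σ (Pic13.sliceAt k C (C ↘ Spec (CommRingCat.of k)) σ hσ)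
      (pullback.diagonal (C ↘ Spec (CommRingCat.of k))) := by
  have hs1 : Pic13.sliceAt k C (C ↘ Spec (CommRingCat.of k)) σ hσ ≫
      pullback.fst (C ↘ Spec (CommRingCat.of k)) (C ↘ Spec (CommRingCat.of k)) = 𝟙 C :=
    pullback.lift_fst _ _ _
  have hs2 : Pic13.sliceAt k C (C ↘ Spec (CommRingCat.of k)) σ hσ ≫
      pullback.snd (C ↘ Spec (CommRingCat.of k)) (C ↘ Spec (CommRingCat.of k)) =
      (C ↘ Spec (CommRingCat.of k)) ≫ σ := pullback.lift_snd _ _ _
  have hd1 := pullback.diagonal_fst (C ↘ Spec (CommRingCat.of k))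
  have hd2 := pullback.diagonal_snd (C ↘ Spec (CommRingCat.of k))
  have hw : σ ≫ Pic13.sliceAt k C (C ↘ Spec (CommRingCat.of k)) σ hσ =
      σ ≫ pullback.diagonal (C ↘ Spec (CommRingCat.of k)) := by
    apply pullback.hom_ext
    · rw [Category.assoc, Category.assoc, hs1, hd1]
    · rw [Category.assoc, Category.assoc, hs2, hd2, reassoc_of% hσ, Category.comp_id]
  have key : ∀ s : PullbackCone (Pic13.sliceAt k C (C ↘ Spec (CommRingCat.of k)) σ hσ)
      (pullback.diagonal (C ↘ Spec (CommRingCat.of k))),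
      s.fst = s.snd ∧ s.fst ≫ (C ↘ Spec (CommRingCat.of k)) ≫ σ = s.snd := by
    intro s
    have h1 := congrArg (· ≫ pullback.fst (C ↘ Spec (CommRingCat.of k))
      (C ↘ Spec (CommRingCat.of k))) s.condition
    have h2 := congrArg (· ≫ pullback.snd (C ↘ Spec (CommRingCat.of k))
      (C ↘ Spec (CommRingCat.of k))) s.condition
    simp only [Category.assoc, hs1, hs2, hd1, hd2, Category.comp_id] at h1 h2
    exact ⟨h1, h2⟩
  refine ⟨⟨hw⟩, ⟨PullbackCone.IsLimit.mk _ (fun s => s.fst ≫ (C ↘ Spec (CommRingCat.of k)))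
    ?_ ?_ ?_⟩⟩
  · intro s
    rw [Category.assoc, (key s).2, (key s).1]
  · intro s
    rw [Category.assoc, (key s).2]
  · intro s m hm1 _
    rw [← hm1, Category.assoc, hσ, Category.comp_id]

/-- the inverse image of the diagonal under the slice through a rational point is that point. -/
theorem comap_diagonal_ker_sliceAt [IsSeparated (C ↘ Spec (CommRingCat.of k))] :
    (pullback.diagonal (C ↘ Spec (CommRingCat.of k))).ker.comap
      (Pic13.sliceAt k C (C ↘ Spec (CommRingCat.of k)) σ hσ) = σ.ker := by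
  have hpb := isPullback_point_slice_diagonal k C σ hσ
  rw [← Scheme.IdealSheafData.ker_fst_of_isClosedImmersion]
  have h1 : hpb.isoPullback.hom ≫ pullback.fst _ _ = σ := hpb.isoPullback_hom_fst
  have h2 := Scheme.Hom.ker_comp_of_isIso hpb.isoPullback.hom
    (pullback.fst (Pic13.sliceAt k C (C ↘ Spec (CommRingCat.of k)) σ hσ)
      (pullback.diagonal (C ↘ Spec (CommRingCat.of k))))
  rw [h1] at h2
  exact h2.symm

include hσ in
/-- the ideal of a rational point of a regular curve is invertible of degree `-1`. -/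
theorem rational_point_facts [IsProper (C ↘ Spec (CommRingCat.of k))] [IsIntegral C]
    (hdim : topologicalKrullDim C = 1)
    (hreg : ∀ x : C, IsRegularLocalRing (C.presheaf.stalk x)) :
    PicF.IsInvertible (ClSub.idealMod σ.ker) ∧ Curv2.deg k C (ClSub.idealMod σ.ker) 1 = -1 ∧
      ∃ (x : C) (hx : IsClosed ({x} : Set C)),
        σ.ker = Scheme.IdealSheafData.vanishingIdeal ⟨{x}, hx⟩ := by
  haveI : IsClosedImmersion σ := isClosedImmersion_of_comp_eq_id _ σ hσ
  have hr : Set.range σ = {σ default} := Set.range_unique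
  have hp : IsClosed ({σ default} : Set C) := hr ▸ σ.isClosedEmbedding.isClosed_range
  have hker : σ.ker = Scheme.IdealSheafData.vanishingIdeal ⟨{σ default}, hp⟩ :=
    (Groth.Agent.H5.Curve6.ker_eq_vI_of_rational k C σ).trans
      (congrArg Scheme.IdealSheafData.vanishingIdeal (Closeds.ext hp.closure_eq))
  have hq : Module.finrank k (Coh.HH C (ClSub.quotMod σ.ker) 0) = 1 :=
    Groth.Agent.H5.Curve6.finrank_H0_quotMod_ker_of_rational k C σ hσ
  have hf := Groth.Agent.H5.SD.point_ideal_facts k C hdim _ hp (hreg _)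
  rw [← hker, hq] at hf
  exact ⟨hf.1, by simpa using hf.2, _, hp, hker⟩

end Point

section Family

variable [IsProper (C ↘ Spec (CommRingCat.of k))] [Smooth (C ↘ Spec (CommRingCat.of k))]
  [IsIntegral C]

/-- the fibres of the diagonal family `K ⊗ pr₁^* I_y`, `K` an inverse of the ideal of the
diagonal. -/
theorem diag_fibre (hdim : topologicalKrullDim C = 1)
    (K : (Pic13.prodK k C (C ↘ Spec (CommRingCat.of k))).Modules) (hK : PicF.IsInvertible K)
    (eK : CohB1.tensorMod (ClSub.idealMod (pullback.diagonal (C ↘ Spec (CommRingCat.of k))).ker) K ≅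
      unitMod _)
    (Iy : C.Modules) (hIy : PicF.IsInvertible Iy)
    (σ : Spec (CommRingCat.of k) ⟶ C) (hσ : σ ≫ (C ↘ Spec (CommRingCat.of k)) = 𝟙 _) :
    ∃ K' : C.Modules, PicF.IsInvertible K' ∧
      Nonempty (CohB1.tensorMod (ClSub.idealMod σ.ker) K' ≅ unitMod C) ∧
      Nonempty (Pic13.fibreMod k C (C ↘ Spec (CommRingCat.of k)) σ hσ
        (CohB1.tensorMod K ((Scheme.Modules.pullback (pullback.fst (C ↘ Spec (CommRingCat.of k))
          (C ↘ Spec (CommRingCat.of k)))).obj Iy)) ≅ CohB1.tensorMod K' Iy) := by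
  have hreg : ∀ x : C, IsRegularLocalRing (C.presheaf.stalk x) := fun x =>
    Groth.Agent.H1.SmoothDepth.isRegularLocalRing_stalk_of_smooth k
      (C ↘ Spec (CommRingCat.of k)) x
  have hΔ := isEffCartierIdeal_diagonal k C hdim
  have hIΔ : PicF.IsInvertible
      (ClSub.idealMod (pullback.diagonal (C ↘ Spec (CommRingCat.of k))).ker) :=
    (isInvertible_idealMod_iff _).mpr hΔ
  have hIσ := (rational_point_facts k C σ hσ hdim hreg).1
  have hcm := comap_diagonal_ker_sliceAt k C σ hσ
  have hE' : BlowUp.IsEffCartierIdeal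
      ((pullback.diagonal (C ↘ Spec (CommRingCat.of k))).ker.comap
        (Pic13.sliceAt k C (C ↘ Spec (CommRingCat.of k)) σ hσ)) := by
    rw [hcm]; exact (isInvertible_idealMod_iff _).mp hIσ
  obtain ⟨g1⟩ := nonempty_pullback_idealMod_iso
    (Pic13.sliceAt k C (C ↘ Spec (CommRingCat.of k)) σ hσ) _ hΔ hE'
  have g2 := g1 ≪≫ eqToIso (congrArg ClSub.idealMod hcm)
  have hs1 : Pic13.sliceAt k C (C ↘ Spec (CommRingCat.of k)) σ hσ ≫
      pullback.fst (C ↘ Spec (CommRingCat.of k)) (C ↘ Spec (CommRingCat.of k)) = 𝟙 C :=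
    pullback.lift_fst _ _ _
  refine ⟨(Scheme.Modules.pullback (Pic13.sliceAt k C (C ↘ Spec (CommRingCat.of k)) σ hσ)).obj K,
    isInvertible_pullback _ hK, ⟨?_⟩, ⟨?_⟩⟩
  · exact tensorIso' g2.symm (Iso.refl _) ≪≫ (pbTensorIso _ _ _ hIΔ hK).symm ≪≫
      (Scheme.Modules.pullback _).mapIso eK ≪≫ pullbackUnitIso _
  · unfold Pic13.fibreMod
    exact pbTensorIso _ _ _ hK (isInvertible_pullback _ hIy) ≪≫ tensorIso' (Iso.refl _)
      ((Scheme.Modules.pullbackComp _ _).app Iy ≪≫ (Scheme.Modules.pullbackCongr hs1).app Iy ≪≫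
        (Scheme.Modules.pullbackId C).app Iy)

/-- **`O(x) ⊗ O(-y)` is algebraically equivalent to zero** for rational points `x`, `y` of a smooth
proper integral curve. -/
theorem isAlgEquivZero_point_diff (hdim : topologicalKrullDim C = 1)
    (σx σy : Spec (CommRingCat.of k) ⟶ C)
    (hx : σx ≫ (C ↘ Spec (CommRingCat.of k)) = 𝟙 _)
    (hy : σy ≫ (C ↘ Spec (CommRingCat.of k)) = 𝟙 _)
    (J : C.Modules) (hJ : PicF.IsInvertible J)
    (e : CohB1.tensorMod (ClSub.idealMod σx.ker) J ≅ unitMod C) :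
    Pic13.IsAlgEquivZero k C (CohB1.tensorMod J (ClSub.idealMod σy.ker)) := by
  have hreg : ∀ x : C, IsRegularLocalRing (C.presheaf.stalk x) := fun x =>
    Groth.Agent.H1.SmoothDepth.isRegularLocalRing_stalk_of_smooth k
      (C ↘ Spec (CommRingCat.of k)) x
  have hΔ := isEffCartierIdeal_diagonal k C hdim
  have hIΔ : PicF.IsInvertible
      (ClSub.idealMod (pullback.diagonal (C ↘ Spec (CommRingCat.of k))).ker) :=
    (isInvertible_idealMod_iff _).mpr hΔ
  obtain ⟨K, hK, ⟨eK⟩⟩ := Groth.Agent.H5.Glue.exists_inverse _ hIΔ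
  have hIx := (rational_point_facts k C σx hx hdim hreg).1
  have hIy := (rational_point_facts k C σy hy hdim hreg).1
  obtain ⟨Kx, hKx, ⟨ex⟩, ⟨fx⟩⟩ := diag_fibre k C hdim K hK eK _ hIy σx hx
  obtain ⟨Ky, hKy, ⟨ey⟩, ⟨fy⟩⟩ := diag_fibre k C hdim K hK eK _ hIy σy hy
  obtain ⟨ux⟩ := nonempty_iso_of_inverses hIx hKx hJ ex e
  exact ⟨C, C ↘ Spec (CommRingCat.of k), inferInstance, inferInstance, inferInstance,
    _, isInvertible_tensorMod hK (isInvertible_pullback _ hIy), σx, σy, hx, hy,
    ⟨fx ≪≫ tensorIso' ux (Iso.refl _)⟩, ⟨fy ≪≫ tensorCommAll _ _ ≪≫ ey⟩⟩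

end Family

end Groth.Agent.LD.AE
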