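import Groth.Agent.Lib.Helper2.RpC4
import Groth.Agent.Lib.Helper8.DRank
import Groth.Prelude.Def_PerfAux

/-!
# Local constancy of the Euler characteristic of the fibres

For `f : X ⟶ Y` proper, `Y` locally Noetherian and `F` coherent and flat over `Y`, the function
`y ↦ χ(X_y, F_y)` is locally constant (EGA III 7.9.4), from the local data of the Mumford complex.
-/

set_option autoImplicit false
set_option linter.style.haveILetI false
noncomputable section
universe u
open CategoryTheory Limits AlgebraicGeometry TopologicalSpace Opposite TensorProduct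

namespace Groth.Agent.LD.AE

open Groth.Agent.H8.DRank

section Alg

variable {A : Type u} [CommRing A]

lemma telescope (r : ℕ → ℤ) (N : ℕ) :
    ∑ p ∈ Finset.range (N + 1), (-1 : ℤ) ^ p * (r p + r (p + 1)) =
      r 0 + (-1 : ℤ) ^ N * r (N + 1) := by
  induction N with
  | zero => simp
  | succ N ih => rw [Finset.sum_range_succ, ih, pow_succ]; ring

/-- the truncated alternating sum of the rank functions. -/
def chi (P : ChainComplex (ModuleCat.{u} A) ℤ) (N : ℕ) (x : PrimeSpectrum A) : ℤ :=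
  ∑ p ∈ Finset.range (N + 1), (-1 : ℤ) ^ p * (CohIII.dRank P (-(p : ℤ)) x : ℤ)

lemma fibDim_eq_zero_of_isZero (M : ModuleCat.{u} A) (h : IsZero M) (x : PrimeSpectrum A) :
    fibDim M x = 0 := by
  haveI : Subsingleton M := ModuleCat.subsingleton_of_isZero h
  have h0 : ∀ z : x.asIdeal.ResidueField ⊗[A] M, z = 0 := fun z =>
    z.induction_on rfl (fun a m => by rw [Subsingleton.elim m 0, TensorProduct.tmul_zero])
      (fun _ _ h1 h2 => by rw [h1, h2, add_zero])
  haveI : Subsingleton (x.asIdeal.ResidueField ⊗[A] M) := ⟨fun a b => by rw [h0 a, h0 b]⟩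
  unfold fibDim
  exact Module.finrank_zero_of_subsingleton

lemma dRank_eq_zero_of_isZero (P : ChainComplex (ModuleCat.{u} A) ℤ)
    (hP : ∀ i, Module.Finite A (P.X i)) (q : ℤ) (h : IsZero (P.X q)) (x : PrimeSpectrum A) :
    CohIII.dRank P q x = 0 := by
  have := hP
  have e := dRank_add P q x
  rw [fibDim_eq_zero_of_isZero _ h x] at e
  omega

lemma chi_eq (P : ChainComplex (ModuleCat.{u} A) ℤ) (hP : ∀ i, Module.Finite A (P.X i)) (N : ℕ)
    (hN : ∀ i : ℤ, i < -(N : ℤ) → IsZero (P.X i)) (x : PrimeSpectrum A) :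
    chi P N x = (∑ p ∈ Finset.range (N + 1), (-1 : ℤ) ^ p * (fibDim (P.X (-(p : ℤ))) x : ℤ)) -
      (rho P 1 0 x : ℤ) := by
  have := hP
  let r : ℕ → ℤ := fun p => (rho P (-(p : ℤ) + 1) (-(p : ℤ)) x : ℤ)
  have key : ∀ p : ℕ, (CohIII.dRank P (-(p : ℤ)) x : ℤ) =
      (fibDim (P.X (-(p : ℤ))) x : ℤ) - (r p + r (p + 1)) := by
    intro p
    have e := dRank_add P (-(p : ℤ)) x
    have ha : (-(p : ℤ)) = -((p + 1 : ℕ) : ℤ) + 1 := by push_cast; ring
    have hb : (-(p : ℤ) - 1) = -((p + 1 : ℕ) : ℤ) := by push_cast; ring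
    have h1 : rho P (-(p : ℤ)) (-(p : ℤ) - 1) x =
        rho P (-((p + 1 : ℕ) : ℤ) + 1) (-((p + 1 : ℕ) : ℤ)) x :=
      congrArg₂ (fun a b => rho P a b x) ha hb
    simp only [r]
    rw [← h1, ← e]
    push_cast
    ring
  have hr0 : r 0 = (rho P 1 0 x : ℤ) := by simp [r]
  have hrN : r (N + 1) = 0 := by
    simp only [r]
    rw [rho_eq_zero_of_isZero_tgt P _ _ (hN _ (by push_cast; omega)) x]
    rfl
  unfold chi
  rw [Finset.sum_congr rfl fun p _ => by rw [key p, mul_sub], Finset.sum_sub_distrib,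
    telescope r N, hr0, hrN, mul_zero, add_zero]

theorem chi_eventually_eq (P : ChainComplex (ModuleCat.{u} A) ℤ)
    (hP : ∀ i, Module.Finite A (P.X i) ∧ Module.Projective A (P.X i)) (N : ℕ)
    (hN : ∀ i : ℤ, i < -(N : ℤ) → IsZero (P.X i))
    (hT : ∀ x : PrimeSpectrum A, CohIII.dRank P 1 x = 0) (x : PrimeSpectrum A) :
    ∀ᶠ y in nhds x, chi P N y = chi P N x := by
  have hf := fun i => (hP i).1
  have hp := fun i => (hP i).2
  have h0 : ∀ᶠ y in nhds x, ∀ p ∈ Finset.range (N + 1),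
      fibDim (P.X (-(p : ℤ))) y = fibDim (P.X (-(p : ℤ))) x := by
    rw [Filter.eventually_all_finset]
    intro p _
    exact fibDim_eventually_eq _ x
  filter_upwards [h0, rho_ge_eventually P 1 0 x, rho_ge_eventually P 2 1 x,
    fibDim_eventually_eq (P.X 1) x] with y hy0 hy1 hy2 hy3
  rw [chi_eq P hf N hN y, chi_eq P hf N hN x]
  have e1 := dRank_add P 1 x
  have e2 := dRank_add P 1 y
  rw [hT] at e1 e2
  norm_num at e1 e2
  have hρ : rho P 1 0 y = rho P 1 0 x := by omega
  rw [hρ]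
  congr 1
  exact Finset.sum_congr rfl fun p hp' => by rw [hy0 p hp']

end Alg

/-- **the Euler characteristic of the fibres of a flat coherent module along a proper morphism to a
locally Noetherian scheme is locally constant.** -/
theorem isLocallyConstant_eulerChar {X Y : Scheme.{u}} (f : X ⟶ Y) [IsProper f]
    [IsLocallyNoetherian Y] [HasInjectiveResolutions X.Modules]
    (F : X.Modules) (hF : Coh.IsCoh F) (hfl : FlatMod.IsFlatOver f F) :
    IsLocallyConstant (fun y : Y => PerfAux.eulerChar f F y) := by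
  rw [IsLocallyConstant.iff_eventually_eq]
  intro y₀
  obtain ⟨V, hV, hy₀, -⟩ := AlgebraicGeometry.exists_isAffineOpen_mem_and_subset
    (x := y₀) (U := ⊤) trivial
  obtain ⟨P, hP, ⟨b, hb⟩, hT, hrank, -, -⟩ :=
    Groth.Agent.H2.RpC.exists_localData' f F hF hfl V hV
  have hPp : ∀ i, Module.Finite Γ(V.toScheme, ⊤) (P.X i) ∧
      Module.Projective Γ(V.toScheme, ⊤) (P.X i) :=
    fun i => ⟨(hP i).1, by haveI := (hP i).2; infer_instance⟩
  have hPf := fun i => (hP i).1
  obtain ⟨N, hNb⟩ : ∃ N : ℕ, -(N : ℤ) ≤ b :=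
    ⟨(-b).toNat, by have := Int.self_le_toNat (-b); linarith⟩
  have hN : ∀ i : ℤ, i < -(N : ℤ) → IsZero (P.X i) := fun i hi => hb i (lt_of_lt_of_le hi hNb)
  have hT1 : ∀ x : PrimeSpectrum Γ(V.toScheme, ⊤), CohIII.dRank P 1 x = 0 := fun x =>
    Groth.Agent.H2.RpC.dRank_eq_zero_of_isZero_TFun P 1 x (hT 1 one_pos _)
  have key : ∀ (y : Y) (hy : y ∈ V),
      PerfAux.eulerChar f F y = chi P N (V.toScheme.toSpecΓ ⟨y, hy⟩) := by
    intro y hy
    unfold PerfAux.eulerChar chi
    have hb' : ∀ i : ℕ, (PerfAux.betti f F y i : ℤ) =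
        (CohIII.dRank P (-(i : ℤ)) (V.toScheme.toSpecΓ ⟨y, hy⟩) : ℤ) := by
      intro i
      rw [← hrank i y hy]
      rfl
    rw [finsum_eq_sum_of_support_subset (s := Finset.range (N + 1))]
    · exact Finset.sum_congr rfl fun i _ => by rw [hb' i]
    · intro i hi
      rw [Function.mem_support] at hi
      by_contra hni
      apply hi
      rw [hb' i, dRank_eq_zero_of_isZero P hPf _ (hN _ (by
        simp only [Finset.coe_range, Set.mem_Iio, not_lt] at hni
        omega)) _]
      simp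
  have hev := chi_eventually_eq P hPp N hN hT1 (V.toScheme.toSpecΓ ⟨y₀, hy₀⟩)
  have hcont : ContinuousAt (fun y : V.toScheme => V.toScheme.toSpecΓ y) ⟨y₀, hy₀⟩ :=
    (V.toScheme.toSpecΓ).continuous.continuousAt
  have h2 := hcont.eventually hev
  rw [← map_nhds_subtype_coe_eq_nhds hy₀ (V.isOpen.mem_nhds hy₀), Filter.eventually_map]
  filter_upwards [h2] with y hy
  rw [key y.1 y.2, key y₀ hy₀]
  exact hy

end Groth.Agent.LD.AE
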