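import Groth.Agent.Lib.Lead.AE.Tau
import Groth.Agent.Lib.Lead.FBC.EulerBC
import Groth.Agent.Lib.Helper1.WellIntBC
import Groth.Agent.Lib.Helper5.IntN.Basic
import Groth.Agent.Lib.Helper5.Snap.TP

/-!
# Modules algebraically trivial on a geometric fibre have the Euler characteristic of `O`

For a proper morphism `p : X ⟶ S`, a point `s` with a "fibre" `F₀ = X ×_S Spec k` over a field `k`
lying over `s`, and an invertible module `L` on `X` algebraically equivalent to zero on the geometric
fibre at `s`, the restriction of `L` to `F₀` has the Euler characteristic of `O_{F₀}`: pass to an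
algebraic closure of `k` by flat base change.
-/

universe u

open CategoryTheory Limits AlgebraicGeometry TopologicalSpace Opposite

namespace Groth.Agent.LD.AE

open Groth.Agent.LD Groth.Agent.LD.QC

/-- flat base change for the Euler characteristic along an arbitrary field extension square. -/
theorem euler_bc_of_isPullback (k : Type u) [Field k] (k' : Type u) [Field k'] [Algebra k k']
    (X X' : Scheme.{u}) [X.Over (Spec (CommRingCat.of k))] [X'.Over (Spec (CommRingCat.of k'))]
    [CompactSpace X] [QuasiSeparatedSpace X] (g : X' ⟶ X)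
    (hpb : IsPullback g (X' ↘ Spec (CommRingCat.of k')) (X ↘ Spec (CommRingCat.of k))
      (Spec.map (CommRingCat.ofHom (algebraMap k k')))) (F : X.Modules) [F.IsQuasicoherent] :
    Curv2.euler k' X' ((Scheme.Modules.pullback g).obj F) = Curv2.euler k X F := by
  unfold Curv2.euler
  congr 1
  funext i
  rw [Groth.Agent.LD.FBC.finrank_HH_bc k k' X X' g hpb F i]

section

variable {k : Type u} [Field k] {X S : Scheme.{u}} (p : X ⟶ S) [IsProper p]
  (F₀ : Scheme.{u}) [F₀.Over (Spec (CommRingCat.of k))] (a : F₀ ⟶ X)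
  (b : Spec (CommRingCat.of k) ⟶ S)

theorem euler_eq_of_isAlgTrivialAt
    (hpb : IsPullback a (F₀ ↘ Spec (CommRingCat.of k)) p b)
    (s : S) (hb : Set.range b.base = {s})
    (L : X.Modules) (hL : PicF.IsInvertible L) (h0 : AbDual.IsAlgTrivialAt p L s) :
    Curv2.euler k F₀ ((Scheme.Modules.pullback a).obj L) = Curv2.euler k F₀ (unitMod F₀) := by
  let Ω := AlgebraicClosure k
  let φ : Spec (CommRingCat.of Ω) ⟶ Spec (CommRingCat.of k) :=
    Spec.map (CommRingCat.ofHom (algebraMap k Ω))
  let σ : Spec (CommRingCat.of Ω) ⟶ S := φ ≫ b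
  have h1 : ∀ x, σ.base x = s := fun x => by
    have h2 : b.base (φ.base x) ∈ Set.range b.base := ⟨_, rfl⟩
    rw [hb] at h2
    exact h2
  haveI : Nonempty (Spec (CommRingCat.of Ω)) := inferInstanceAs (Nonempty (PrimeSpectrum Ω))
  have hσ : Set.range σ.base = {s} := by
    ext y
    constructor
    · rintro ⟨x, rfl⟩
      exact h1 x
    · intro hy
      obtain ⟨x⟩ := ‹Nonempty (Spec (CommRingCat.of Ω))›
      exact ⟨x, (h1 x).trans (Set.mem_singleton_iff.mp hy).symm⟩
  have hN := h0 Ω σ hσ
  letI : (pullback p σ).Over (Spec (CommRingCat.of Ω)) := ⟨pullback.snd p σ⟩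
  haveI : IsProper ((pullback p σ) ↘ Spec (CommRingCat.of Ω)) :=
    inferInstanceAs (IsProper (pullback.snd p σ))
  haveI : IsProper (F₀ ↘ Spec (CommRingCat.of k)) :=
    MorphismProperty.of_isPullback (P := @IsProper) hpb inferInstance
  haveI : CompactSpace F₀ :=
    QuasiCompact.compactSpace_of_compactSpace (F₀ ↘ Spec (CommRingCat.of k))
  haveI : QuasiSeparatedSpace F₀ :=
    quasiSeparatedSpace_of_quasiSeparated (F₀ ↘ Spec (CommRingCat.of k))
  let g : pullback p σ ⟶ F₀ := hpb.lift (pullback.fst p σ) (pullback.snd p σ ≫ φ)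
    (by rw [Category.assoc]; exact pullback.condition)
  have hga : g ≫ a = pullback.fst p σ := hpb.lift_fst _ _ _
  have hgs : g ≫ (F₀ ↘ Spec (CommRingCat.of k)) = pullback.snd p σ ≫ φ := hpb.lift_snd _ _ _
  have hbig : IsPullback (g ≫ a) (pullback.snd p σ) p (φ ≫ b) := by
    rw [hga]
    exact IsPullback.of_hasPullback p σ
  have hpb' : IsPullback g ((pullback p σ) ↘ Spec (CommRingCat.of Ω))
      (F₀ ↘ Spec (CommRingCat.of k)) (Spec.map (CommRingCat.ofHom (algebraMap k Ω))) :=
    IsPullback.of_right hbig hgs hpb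
  haveI : L.IsQuasicoherent := qc_of_isInvertible L hL
  haveI := qc_pullback a L
  haveI : (unitMod F₀).IsQuasicoherent := qc_of_isInvertible _ (isInvertible_unit F₀)
  have e1 := euler_bc_of_isPullback k Ω F₀ (pullback p σ) g hpb' ((Scheme.Modules.pullback a).obj L)
  have e2 := euler_bc_of_isPullback k Ω F₀ (pullback p σ) g hpb' (unitMod F₀)
  have e3 := euler_pullback_of_algEquivZero Ω (pullback p σ) (Y := pullback p σ) (𝟙 _)
    (Category.id_comp _) _ hN
  let i1 : (Scheme.Modules.pullback g).obj ((Scheme.Modules.pullback a).obj L) ≅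
      (Scheme.Modules.pullback (𝟙 (pullback p σ))).obj
        ((Scheme.Modules.pullback (pullback.fst p σ)).obj L) :=
    (Scheme.Modules.pullbackComp g a).app L ≪≫ (Scheme.Modules.pullbackCongr hga).app L ≪≫
      ((Scheme.Modules.pullbackId (pullback p σ)).app _).symm
  have e4 := Groth.Agent.LD.FBC.euler_congr Ω i1
  have e5 := Groth.Agent.LD.FBC.euler_congr Ω (pullbackUnitIso g)
  rw [← e1, ← e2, e4, e3, e5]

end

/-- the dimension of a fibre product with the spectrum of a field, for a morphism all of whose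
fibres have dimension `d`. -/
theorem dim_eq_of_fibres {C S : Scheme.{u}} (f : C ⟶ S) [LocallyOfFiniteType f] (d : ℕ)
    (hdim : ∀ s : S, topologicalKrullDim ↥(f.fiber s) = d)
    {K : Type u} [Field K] {Y : Scheme.{u}} (a : Y ⟶ C) (q : Y ⟶ Spec (CommRingCat.of K))
    (b : Spec (CommRingCat.of K) ⟶ S) (sq : IsPullback a q f b) :
    topologicalKrullDim Y = d := by
  have h := Groth.Agent.H1.WellInt.dim_preimage_eq_add (k := K) (𝟙 (Spec (CommRingCat.of K)))
    f b a q sq d hdim Set.univ isOpen_univ.isLocallyClosed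
  rw [Set.preimage_univ] at h
  have h1 : topologicalKrullDim ↥(Set.univ : Set Y) = topologicalKrullDim Y :=
    IsHomeomorph.topologicalKrullDim_eq _ (Homeomorph.Set.univ Y).isHomeomorph
  have h2 : topologicalKrullDim ↥(Set.univ : Set (Spec (CommRingCat.of K))) =
      topologicalKrullDim (Spec (CommRingCat.of K)) :=
    IsHomeomorph.topologicalKrullDim_eq _
      (Homeomorph.Set.univ (Spec (CommRingCat.of K))).isHomeomorph
  have h3 : topologicalKrullDim (Spec (CommRingCat.of K)) = 0 :=
    (PrimeSpectrum.topologicalKrullDim_eq_ringKrullDim (R := K)).trans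
      (ringKrullDim_eq_zero_of_field K)
  rw [h1, h2, h3, zero_add] at h
  exact h

/-- **S12412**. -/
theorem s12412 {C S : Scheme.{u}} (f : C ⟶ S) [IsProper f]
    (hdim : ∀ s : S, topologicalKrullDim ↥(f.fiber s) = 1)
    (T : Over S) (L : (PicF.XT f T).Modules) (hL : PicF.IsInvertible L) (t : T.left)
    (h0 : AbDual.IsAlgTrivialAt (PicF.XTproj f T) L t) :
    FGA.eulerCharLE (T.left.residueField t) (FGA.fibreAt f T t).left (FGA.restrFibre f T t L) 1 =
      FGA.eulerCharLE (T.left.residueField t) (FGA.fibreAt f T t).left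
        (Coh.structureModule (FGA.fibreAt f T t).left) 1 := by
  have hpb : IsPullback (pullback.fst (PicF.XTproj f T) (T.left.fromSpecResidueField t))
      (pullback.snd (PicF.XTproj f T) (T.left.fromSpecResidueField t)) (PicF.XTproj f T)
      (T.left.fromSpecResidueField t) := IsPullback.of_hasPullback _ _
  haveI : IsProper ((FGA.fibreAt f T t).left ↘ Spec (CommRingCat.of (T.left.residueField t))) :=
    inferInstanceAs (IsProper (pullback.snd (PicF.XTproj f T) (T.left.fromSpecResidueField t)))
  have hd : topologicalKrullDim (FGA.fibreAt f T t).left ≤ ((1 : ℕ) : WithBot ℕ∞) := by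
    have sq2 := hpb.paste_horiz (IsPullback.of_hasPullback f T.hom)
    exact (dim_eq_of_fibres f 1 (by simpa using hdim) _ _ _ sq2).le
  have hL' : PicF.IsInvertible (FGA.restrFibre f T t L) := isInvertible_pullback _ hL
  rw [Groth.Agent.H5.IntN.eulerCharLE_eq_euler (T.left.residueField t) 1 hd _
      (Groth.Agent.H5.Snap.isCoh_of_isInvertible hL'),
    Groth.Agent.H5.IntN.eulerCharLE_eq_euler (T.left.residueField t) 1 hd _
      (Groth.Agent.H5.Snap.isCoh_of_isInvertible (isInvertible_unit _))]
  exact euler_eq_of_isAlgTrivialAt (k := T.left.residueField t) (PicF.XTproj f T) _ _ _ hpb t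
    (Scheme.range_fromSpecResidueField t) L hL h0

end Groth.Agent.LD.AE
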