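import Groth.Agent.Lib.Lead.AE.AlgEq
import Groth.Agent.Lib.Lead.QC.PullInv
import Groth.Agent.Lib.Lead.QC.TensorPow
import Groth.Agent.Lib.Lead.QC.TensorDesc
import Groth.Agent.Lib.Lead.QC.TensorQC
import Groth.Agent.Lib.Lead.QC.FreeData
import Groth.Agent.Lib.Lead.QC.InvBasis
import Groth.Agent.Lib.Lead.QC.UnitIso
import Groth.Agent.Lib.Helper3.RatConn

/-!
# Algebraic equivalence to zero: closure under isomorphism and tensor product

The invertible modules algebraically equivalent to zero are stable under isomorphism and under tensor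
products (take the product of the two parameter schemes, which is connected because the parameter
schemes have rational points), and contain the structure sheaf.
-/

universe u

open CategoryTheory Limits AlgebraicGeometry TopologicalSpace Opposite

namespace Groth.Agent.LD.AE

open Groth.Agent.LD Groth.Agent.LD.QC

section Tensor

variable {X : Scheme.{u}}

/-- uniqueness of tensor inverses of invertible modules. -/
theorem nonempty_iso_of_inverses {A B B' : X.Modules} (hA : PicF.IsInvertible A)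
    (hB : PicF.IsInvertible B) (hB' : PicF.IsInvertible B')
    (e : CohB1.tensorMod A B ≅ unitMod X) (e' : CohB1.tensorMod A B' ≅ unitMod X) :
    Nonempty (B ≅ B') := by
  haveI := qc_of_isInvertible A hA
  haveI := qc_of_isInvertible B hB
  haveI := qc_of_isInvertible B' hB'
  exact ⟨(unitorL' B).symm ≪≫ tensorIso' (e'.symm ≪≫ tensorCommAll A B') (Iso.refl B) ≪≫
    tensorAssoc B' A B ≪≫ tensorIso' (Iso.refl B') e ≪≫ SecTwist.unitorR B'⟩

/-- the interchange isomorphism `(A ⊗ B) ⊗ (C ⊗ D) ≅ (A ⊗ C) ⊗ (B ⊗ D)`. -/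
noncomputable def tensorInterchange (A B C D : X.Modules) [A.IsQuasicoherent] [B.IsQuasicoherent]
    [C.IsQuasicoherent] [D.IsQuasicoherent] :
    CohB1.tensorMod (CohB1.tensorMod A B) (CohB1.tensorMod C D) ≅
      CohB1.tensorMod (CohB1.tensorMod A C) (CohB1.tensorMod B D) :=
  haveI := tensorMod_isQuasicoherent C D
  haveI := tensorMod_isQuasicoherent B D
  haveI := tensorMod_isQuasicoherent B C
  haveI := tensorMod_isQuasicoherent C B
  tensorAssoc A B (CohB1.tensorMod C D) ≪≫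
    tensorIso' (Iso.refl A) ((tensorAssoc B C D).symm ≪≫
      tensorIso' (tensorCommAll B C) (Iso.refl D) ≪≫ tensorAssoc C B D) ≪≫
    (tensorAssoc A C (CohB1.tensorMod B D)).symm

end Tensor

variable (k : Type u) [Field k] (X : Scheme.{u}) [X.Over (Spec (CommRingCat.of k))]

/-- algebraic equivalence to zero is invariant under isomorphism. -/
theorem isAlgEquivZero_of_iso {L L' : X.Modules} (e : L ≅ L')
    (h : Pic13.IsAlgEquivZero k X L) : Pic13.IsAlgEquivZero k X L' := by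
  obtain ⟨T, q, hc, hl, hq, M, hM, t, t₀, ht, ht₀, ⟨e1⟩, ⟨e0⟩⟩ := h
  exact ⟨T, q, hc, hl, hq, M, hM, t, t₀, ht, ht₀, ⟨e1 ≪≫ e⟩, ⟨e0⟩⟩

/-- the structure sheaf is algebraically equivalent to zero. -/
theorem isAlgEquivZero_unit : Pic13.IsAlgEquivZero k X (unitMod X) := by
  haveI : IrreducibleSpace (Spec (CommRingCat.of k)) := by
    haveI : IsDomain (CommRingCat.of k) := inferInstanceAs (IsDomain k)
    infer_instance
  refine ⟨Spec (CommRingCat.of k), 𝟙 _, inferInstance, inferInstance, inferInstance,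
    unitMod _, isInvertible_unit _, 𝟙 _, 𝟙 _, Category.id_comp _, Category.id_comp _,
    ⟨pullbackUnitIso _⟩, ⟨pullbackUnitIso _⟩⟩

section Prod

variable {T₁ T₂ : Scheme.{u}} (q₁ : T₁ ⟶ Spec (CommRingCat.of k))
  (q₂ : T₂ ⟶ Spec (CommRingCat.of k))

/-- the structure morphism of the product of two parameter schemes. -/
noncomputable abbrev qProd : pullback q₁ q₂ ⟶ Spec (CommRingCat.of k) := pullback.fst q₁ q₂ ≫ q₁

/-- `X × (T₁ × T₂) ⟶ X × T₁`. -/
noncomputable def prodπ₁ : Pic13.prodK k X (qProd k q₁ q₂) ⟶ Pic13.prodK k X q₁ :=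
  pullback.lift (pullback.fst _ _) (pullback.snd _ _ ≫ pullback.fst q₁ q₂)
    (by rw [Category.assoc]; exact pullback.condition)

/-- `X × (T₁ × T₂) ⟶ X × T₂`. -/
noncomputable def prodπ₂ : Pic13.prodK k X (qProd k q₁ q₂) ⟶ Pic13.prodK k X q₂ :=
  pullback.lift (pullback.fst _ _) (pullback.snd _ _ ≫ pullback.snd q₁ q₂)
    (by rw [Category.assoc, ← pullback.condition (f := q₁) (g := q₂)]; exact pullback.condition)

variable (u₁ : Spec (CommRingCat.of k) ⟶ T₁) (u₂ : Spec (CommRingCat.of k) ⟶ T₂)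
  (h₁ : u₁ ≫ q₁ = 𝟙 _) (h₂ : u₂ ≫ q₂ = 𝟙 _)

/-- the product of two rational points. -/
noncomputable def prodPt : Spec (CommRingCat.of k) ⟶ pullback q₁ q₂ :=
  pullback.lift u₁ u₂ (by rw [h₁, h₂])

lemma prodPt_comp : prodPt k q₁ q₂ u₁ u₂ h₁ h₂ ≫ qProd k q₁ q₂ = 𝟙 _ := by
  unfold prodPt qProd
  rw [pullback.lift_fst_assoc, h₁]

lemma sliceAt_prodπ₁ :
    Pic13.sliceAt k X (qProd k q₁ q₂) (prodPt k q₁ q₂ u₁ u₂ h₁ h₂) (prodPt_comp k q₁ q₂ u₁ u₂ h₁ h₂) ≫
      prodπ₁ k X q₁ q₂ = Pic13.sliceAt k X q₁ u₁ h₁ := by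
  unfold Pic13.sliceAt prodπ₁ prodPt
  apply pullback.hom_ext
  · rw [Category.assoc, pullback.lift_fst, pullback.lift_fst, pullback.lift_fst]
  · rw [Category.assoc, pullback.lift_snd, pullback.lift_snd_assoc, pullback.lift_snd,
      Category.assoc, pullback.lift_fst]

lemma sliceAt_prodπ₂ :
    Pic13.sliceAt k X (qProd k q₁ q₂) (prodPt k q₁ q₂ u₁ u₂ h₁ h₂) (prodPt_comp k q₁ q₂ u₁ u₂ h₁ h₂) ≫
      prodπ₂ k X q₁ q₂ = Pic13.sliceAt k X q₂ u₂ h₂ := by
  unfold Pic13.sliceAt prodπ₂ prodPt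
  apply pullback.hom_ext
  · rw [Category.assoc, pullback.lift_fst, pullback.lift_fst, pullback.lift_fst]
  · rw [Category.assoc, pullback.lift_snd, pullback.lift_snd_assoc, pullback.lift_snd,
      Category.assoc, pullback.lift_snd]

/-- the fibre of the exterior tensor product of two families over a product point. -/
theorem nonempty_fibreMod_prod_iso (M₁ : (Pic13.prodK k X q₁).Modules)
    (M₂ : (Pic13.prodK k X q₂).Modules) (hM₁ : PicF.IsInvertible M₁) (hM₂ : PicF.IsInvertible M₂) :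
    Nonempty (Pic13.fibreMod k X (qProd k q₁ q₂) (prodPt k q₁ q₂ u₁ u₂ h₁ h₂)
        (prodPt_comp k q₁ q₂ u₁ u₂ h₁ h₂)
        (CohB1.tensorMod ((Scheme.Modules.pullback (prodπ₁ k X q₁ q₂)).obj M₁)
          ((Scheme.Modules.pullback (prodπ₂ k X q₁ q₂)).obj M₂)) ≅
      CohB1.tensorMod (Pic13.fibreMod k X q₁ u₁ h₁ M₁) (Pic13.fibreMod k X q₂ u₂ h₂ M₂)) := by
  unfold Pic13.fibreMod
  exact ⟨pbTensorIso _ _ _ (isInvertible_pullback _ hM₁) (isInvertible_pullback _ hM₂) ≪≫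
    tensorIso'
      ((Scheme.Modules.pullbackComp _ (prodπ₁ k X q₁ q₂)).app M₁ ≪≫
        (Scheme.Modules.pullbackCongr (sliceAt_prodπ₁ k X q₁ q₂ u₁ u₂ h₁ h₂)).app M₁)
      ((Scheme.Modules.pullbackComp _ (prodπ₂ k X q₁ q₂)).app M₂ ≪≫
        (Scheme.Modules.pullbackCongr (sliceAt_prodπ₂ k X q₁ q₂ u₁ u₂ h₁ h₂)).app M₂)⟩

end Prod

/-- **algebraic equivalence to zero is stable under tensor products.** -/
theorem isAlgEquivZero_tensor {A B : X.Modules} (hA : Pic13.IsAlgEquivZero k X A)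
    (hB : Pic13.IsAlgEquivZero k X B) : Pic13.IsAlgEquivZero k X (CohB1.tensorMod A B) := by
  obtain ⟨T₁, q₁, hc₁, hl₁, hqc₁, M₁, hM₁, t₁, s₁, ht₁, hs₁, ⟨a₁⟩, ⟨b₁⟩⟩ := hA
  obtain ⟨T₂, q₂, hc₂, hl₂, hqc₂, M₂, hM₂, t₂, s₂, ht₂, hs₂, ⟨a₂⟩, ⟨b₂⟩⟩ := hB
  haveI := hc₁
  haveI := hc₂
  haveI := hl₁
  haveI := hl₂
  haveI := hqc₁
  haveI := hqc₂
  haveI : ConnectedSpace ↥(pullback q₁ q₂) :=
    Groth.Agent.H3.RatConn.connectedSpace_pullback_of_rational_point k T₁ T₂ q₁ q₂ t₁ ht₁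
  obtain ⟨et⟩ := nonempty_fibreMod_prod_iso k X q₁ q₂ t₁ t₂ ht₁ ht₂ M₁ M₂ hM₁ hM₂
  obtain ⟨es⟩ := nonempty_fibreMod_prod_iso k X q₁ q₂ s₁ s₂ hs₁ hs₂ M₁ M₂ hM₁ hM₂
  exact ⟨pullback q₁ q₂, qProd k q₁ q₂, inferInstance, inferInstance, inferInstance,
    CohB1.tensorMod ((Scheme.Modules.pullback (prodπ₁ k X q₁ q₂)).obj M₁)
      ((Scheme.Modules.pullback (prodπ₂ k X q₁ q₂)).obj M₂),
    isInvertible_tensorMod (isInvertible_pullback _ hM₁) (isInvertible_pullback _ hM₂),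
    prodPt k q₁ q₂ t₁ t₂ ht₁ ht₂, prodPt k q₁ q₂ s₁ s₂ hs₁ hs₂,
    prodPt_comp k q₁ q₂ t₁ t₂ ht₁ ht₂, prodPt_comp k q₁ q₂ s₁ s₂ hs₁ hs₂,
    ⟨et ≪≫ tensorIso' a₁ a₂⟩, ⟨es ≪≫ tensorIso' b₁ b₂ ≪≫ unitorL' (unitMod X)⟩⟩

end Groth.Agent.LD.AE
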